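import Cfsg.Agent.Lib.Classical.SpAmalgam.Parabolic

/-!
# Three double cosets in a completion of the amalgam

The element `s = x y x` carries `σ 0` to the second plane; the union of `P`, `P w P` and `P s P`
contains the subgroup generated by the amalgam, and `p` has trivial kernel on it.
-/

set_option autoImplicit false

open Matrix

namespace CfsgLib.Classical.SpAmalgam.Step

open CfsgLib.Chevalley.SL2 CfsgLib.Chevalley.SingleBond

variable {F : Type*} [Field F] {m : ℕ} {X : Type*} [Group X] (S : Step F m X)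

theorem tvS_neg_vec {n : ℕ} (v : Vec F n) (c : F) : tvS (-v) c = tvS v c :=
  ext_act fun u => by simp [om_neg_right]

theorem sl_hom_ext {φ ψ : SpecialLinearGroup (Fin 2) F →* X} (h1 : ∀ a, φ (ux a) = ψ (ux a))
    (h2 : ∀ b, φ (lx b) = ψ (lx b)) : φ = ψ := by
  have hw : (wn : SpecialLinearGroup (Fin 2) F) = ux 1 * lx (-1) * ux 1 := by
    refine Subtype.ext ?_
    rw [Matrix.SpecialLinearGroup.coe_mul, Matrix.SpecialLinearGroup.coe_mul, wn_val, ux_val, lx_val]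
    ext i j; fin_cases i <;> fin_cases j <;> simp [Matrix.mul_apply]
  have hd : ∀ c : Fˣ, (dh c : SpecialLinearGroup (Fin 2) F) =
      ux (c : F) * lx (-(c : F)⁻¹) * ux (c : F) * (ux (-1) * lx 1 * ux (-1)) := fun c => by
    refine Subtype.ext ?_
    rw [Matrix.SpecialLinearGroup.coe_mul, Matrix.SpecialLinearGroup.coe_mul,
      Matrix.SpecialLinearGroup.coe_mul, Matrix.SpecialLinearGroup.coe_mul,
      Matrix.SpecialLinearGroup.coe_mul, Chevalley.SingleBond.dh_val, ux_val, lx_val, lx_val, ux_val]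
    ext i j; fin_cases i <;> fin_cases j <;> simp [Matrix.mul_apply]
  refine MonoidHom.ext fun g => ?_
  have hg := exists_normal_form g
  induction hg using Submonoid.closure_induction with
  | mem x hx =>
    rcases hx with (⟨a, rfl⟩ | ⟨c, rfl⟩) | hx
    · exact h1 a
    · rw [hd]; simp only [map_mul, h1, h2]
    · rw [Set.mem_singleton_iff.1 hx, hw]; simp only [map_mul, h1, h2]
  | one => rw [map_one, map_one]
  | mul a b _ _ iha ihb => rw [map_mul, map_mul, iha, ihb]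

theorem T_conj_T (a b : Vec F (m + 1)) :
    S.T a * S.T b * (S.T a)⁻¹ = S.T b * S.xa (om b a - om a b) := by
  rw [mul_inv_eq_iff_eq_mul, mul_assoc (S.T b), ← S.T_xa, ← mul_assoc, S.T_mul a b, S.T_mul b a,
    mul_assoc, S.xa_add, add_comm b a, add_sub_cancel]

/-! ### The element `s` -/

/-- The short root element `x(b)`. -/
noncomputable def x1 (b : F) : X := S.T (b • ff)

/-- The short root element `y(d)`. -/
noncomputable def y1 (d : F) : X := S.T' (d • ee)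

theorem x1_neg (b : F) : (S.x1 b)⁻¹ = S.x1 (-b) := by rw [x1, x1, S.T_neg, neg_smul]

theorem y1_neg (d : F) : (S.y1 d)⁻¹ = S.y1 (-d) := by rw [y1, y1, S.T'_neg, neg_smul]

/-- `s = x y x`. -/
noncomputable def s : X := S.x1 1 * S.y1 1 * S.x1 1

theorem s_mul_inv (z : X) :
    S.s * z * S.s⁻¹ =
      S.x1 1 * (S.y1 1 * (S.x1 1 * z * (S.x1 1)⁻¹) * (S.y1 1)⁻¹) * (S.x1 1)⁻¹ := by
  rw [s]; group

theorem p_s : S.p S.s = tG ff * tG' ee * tG ff := by
  rw [s, x1, y1, map_mul, map_mul, S.pT, S.pT', one_smul, one_smul]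

theorem act_s (α β γ δ : F) (x : Vec F m) :
    act (S.p S.s) (mk α β (mk γ δ x)) = mk (-γ) (-δ) (mk α β x) := by
  rw [S.p_s]
  simp [ee, ff]

theorem s_conj_xa (a : F) : S.s * S.xa a * S.s⁻¹ = S.γ (tvS ee a) := by
  have hm : S.s * S.xa a * S.s⁻¹ ∈ S.par := by
    rw [S.s_mul_inv]
    refine mul_mem (mul_mem (S.T_mem _) ?_) (inv_mem (S.T_mem _))
    rw [x1, S.T_xa, mul_inv_cancel_right]
    exact S.T'_conj_xa_mem _ _
  refine S.par_ext hm (S.γ_mem _) ?_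
  rw [map_mul, map_mul, map_inv, S.pγ, mul_inv_eq_iff_eq_mul, S.p_xa]
  refine ext_mk fun α β x => ?_
  obtain ⟨γ, δ, x, rfl⟩ := exists_mk x
  simp [act_s, ux_val, tvS_ee]

theorem s_conj_T_ee : S.s * S.T ee * S.s⁻¹ = S.T (-ee) := by
  have hm : S.s * S.T ee * S.s⁻¹ ∈ S.par := by
    rw [S.s_mul_inv]
    refine mul_mem (mul_mem (S.T_mem _) ?_) (inv_mem (S.T_mem _))
    rw [x1, S.T_conj_T, ← mul_inv_cancel_right (S.T ee * _) (S.y1 1)]
    rw [show S.y1 1 * (S.T ee * S.xa (om ee ((1 : F) • ff) - om ((1 : F) • ff) ee) * S.y1 1 * (S.y1 1)⁻¹) *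
        (S.y1 1)⁻¹ = (S.y1 1 * S.T ee * (S.y1 1)⁻¹) *
          (S.y1 1 * S.xa (om ee ((1 : F) • ff) - om ((1 : F) • ff) ee) * (S.y1 1)⁻¹) by group]
    exact mul_mem (S.T'_conj_T_mem (by simp [om_smul_left])) (S.T'_conj_xa_mem _ _)
  refine S.par_ext hm (S.T_mem _) ?_
  rw [map_mul, map_mul, map_inv, S.pT, S.pT, mul_inv_eq_iff_eq_mul]
  refine ext_mk fun α β x => ?_
  obtain ⟨γ, δ, x, rfl⟩ := exists_mk x
  simp [act_s, ee]
  ring

/-- `s` moves the stabilizer of `ff` into the opposite parabolic. -/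
theorem s_conj_γ_mem {g : Sp F (m + 1)} (hg : act g ff = ff) :
    S.s * S.γ g * S.s⁻¹ ∈ S.par' := by
  set e : Vec F (m + 1) := act g⁻¹ ((1 : F) • ee)
  have hx : S.x1 1 * S.γ g * (S.x1 1)⁻¹ = S.γ g := by
    rw [x1, ← S.γ_T_fix (by rw [one_smul, hg]), mul_inv_cancel_right]
  have hy : S.y1 1 * S.γ g * (S.y1 1)⁻¹ =
      S.γ g * S.T' (e + -((1 : F) • ee)) * S.lb (-om (-((1 : F) • ee)) e) := by
    rw [mul_assoc (S.γ g), ← S.T'_mul, ← mul_assoc, S.γ_T', y1, S.T'_neg]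
    simp only [e, act_act_inv]
  have horth : om ((1 : F) • ff) (e + -((1 : F) • ee)) = 0 := by
    have h1 : om ff (act g⁻¹ ee) = om (ff : Vec F (m + 1)) ee := by
      conv_lhs => rw [← act_inv_eq hg]
      rw [om_act]
    simp only [e, one_smul, om_add_right, om_neg_right, h1]
    ring
  rw [S.s_mul_inv, hx, hy]
  rw [show S.x1 1 * (S.γ g * S.T' (e + -((1 : F) • ee)) * S.lb (-om (-((1 : F) • ee)) e)) * (S.x1 1)⁻¹ =
      (S.x1 1 * S.γ g * (S.x1 1)⁻¹) * (S.x1 1 * S.T' (e + -((1 : F) • ee)) * (S.x1 1)⁻¹) *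
        (S.x1 1 * S.lb (-om (-((1 : F) • ee)) e) * (S.x1 1)⁻¹) by group, hx]
  exact mul_mem (mul_mem (S.γ_mem' _) (S.T_conj_T'_mem horth)) (S.T_conj_lb_mem _ _)

theorem s_conj_γ_ff (c : F) : S.s * S.γ (tvS ff c) * S.s⁻¹ = S.lb (-c) := by
  refine S.par'_ext (S.s_conj_γ_mem (by simp)) (S.lb_mem' _) ?_
  rw [map_mul, map_mul, map_inv, S.pγ, mul_inv_eq_iff_eq_mul, S.p_lb]
  refine ext_mk fun α β x => ?_
  obtain ⟨γ, δ, x, rfl⟩ := exists_mk x
  simp [act_s, tvS_ff, lx_val]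
  ring

theorem s_conj_x1 (c : F) : S.s * S.x1 c * S.s⁻¹ = S.y1 c := by
  have hdec : S.x1 c =
      S.T (-ee) * S.γ (tvS ff (-c)) * S.T ee * (S.γ (tvS ff (-c)))⁻¹ * S.xa c := by
    calc S.x1 c = S.T (c • ff) * (S.xa (-c) * S.xa c) := by
          rw [S.xa_add, neg_add_cancel, S.xa_zero, mul_one, x1]
      _ = S.T (-ee) * S.T (ee + c • ff) * S.xa c := by
          rw [← mul_assoc, S.T_mul (-ee), neg_add_cancel_left]
          congr 2
          simp [om_neg_right, om_add_left, om_smul_left, om_ff_ee]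
      _ = S.T (-ee) * (S.γ (tvS ff (-c)) * S.T ee * (S.γ (tvS ff (-c)))⁻¹) * S.xa c := by
          rw [S.T_conj, act_tvS, om_ee_ff]
          simp
      _ = _ := by group
  have hm : S.s * S.x1 c * S.s⁻¹ ∈ S.par' := by
    rw [hdec, show S.s * (S.T (-ee) * S.γ (tvS ff (-c)) * S.T ee * (S.γ (tvS ff (-c)))⁻¹ * S.xa c) *
        S.s⁻¹ = ((S.s * S.T ee * S.s⁻¹)⁻¹ * (S.s * S.γ (tvS ff (-c)) * S.s⁻¹) * (S.s * S.T ee * S.s⁻¹)) *
          (S.s * S.γ (tvS ff (-c)) * S.s⁻¹)⁻¹ * (S.s * S.xa c * S.s⁻¹) by rw [← S.T_neg]; group,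
      S.s_conj_T_ee, S.s_conj_γ_ff, S.s_conj_xa, ← S.T_neg, inv_inv]
    exact mul_mem (mul_mem (S.T_conj_lb_mem _ _) (inv_mem (S.lb_mem' _))) (S.γ_mem' _)
  refine S.par'_ext hm (S.T'_mem' _) ?_
  rw [map_mul, map_mul, map_inv, x1, y1, S.pT, S.pT', mul_inv_eq_iff_eq_mul]
  refine ext_mk fun α β x => ?_
  obtain ⟨γ, δ, x, rfl⟩ := exists_mk x
  simp [act_s, ee, ff]
  ring

theorem s_x1 (c : F) : S.s * S.x1 c = S.y1 c * S.s := by rw [← S.s_conj_x1, inv_mul_cancel_right]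

theorem braid : S.y1 1 * S.x1 1 * S.y1 1 = S.s := by
  have h := S.s_x1 1
  rw [s, ← mul_assoc, ← mul_assoc] at h
  exact (mul_right_cancel h).symm

/-- The torus of the second plane. -/
def h1 (b : Fˣ) : X := S.γ (stdS 0 (dh b⁻¹))

theorem h1_inv (b : Fˣ) : (S.h1 b)⁻¹ = S.γ (stdS 0 (dh b)) := by
  rw [h1, ← map_inv, ← map_inv]
  congr 2
  exact inv_eq_of_mul_eq_one_right (by rw [sl_dh_mul, inv_mul_cancel, sl_dh_one])

theorem h1_conj_x1 (b : Fˣ) (d : F) : S.h1 b * S.x1 d * (S.h1 b)⁻¹ = S.x1 ((b : F) * d) := by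
  rw [h1, x1, x1, S.T_conj]
  simp [ff, Chevalley.SingleBond.dh_val]

theorem h1_conj_y1 (b : Fˣ) (d : F) : S.h1 b * S.y1 d * (S.h1 b)⁻¹ = S.y1 ((b : F)⁻¹ * d) := by
  rw [h1, y1, y1, S.γ_T', mul_inv_cancel_right]
  simp [ee, Chevalley.SingleBond.dh_val]

/-- `n b`. -/
noncomputable def nn (b : Fˣ) : X := S.h1 b * S.s * (S.h1 b)⁻¹

theorem nn_eq (b : Fˣ) : S.nn b = S.x1 b * S.y1 (b : F)⁻¹ * S.x1 b := by
  rw [nn, s, show S.h1 b * (S.x1 1 * S.y1 1 * S.x1 1) * (S.h1 b)⁻¹ =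
    (S.h1 b * S.x1 1 * (S.h1 b)⁻¹) * (S.h1 b * S.y1 1 * (S.h1 b)⁻¹) *
      (S.h1 b * S.x1 1 * (S.h1 b)⁻¹) by group, S.h1_conj_x1, S.h1_conj_y1, mul_one, mul_one]

theorem nn_eq' (b : Fˣ) : S.nn b = S.y1 (b : F)⁻¹ * S.x1 b * S.y1 (b : F)⁻¹ := by
  rw [nn, ← S.braid, show S.h1 b * (S.y1 1 * S.x1 1 * S.y1 1) * (S.h1 b)⁻¹ =
    (S.h1 b * S.y1 1 * (S.h1 b)⁻¹) * (S.h1 b * S.x1 1 * (S.h1 b)⁻¹) *
      (S.h1 b * S.y1 1 * (S.h1 b)⁻¹) by group, S.h1_conj_x1, S.h1_conj_y1, mul_one, mul_one]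

theorem nn_neg_one : S.nn (-1) = S.s⁻¹ := by
  rw [S.nn_eq, s, _root_.mul_inv_rev, _root_.mul_inv_rev, S.x1_neg, S.y1_neg, mul_assoc]
  simp [inv_neg]

theorem x1_eq (b : Fˣ) : S.x1 b = S.y1 (-(b : F)⁻¹) * S.nn b * S.y1 (-(b : F)⁻¹) := by
  rw [S.nn_eq', ← S.y1_neg]; group

/-- Conjugation by `s` exchanges the first two planes. -/
theorem s_conj_plane (h : SpecialLinearGroup (Fin 2) F) :
    S.s * S.γ (stdS 0 h) * S.s⁻¹ = S.σ 0 h := by
  suffices H : (((MulAut.conj S.s).toMonoidHom.comp S.γ).comp (stdS 0)) = S.σ 0 from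
    DFunLike.congr_fun H h
  refine sl_hom_ext (fun a => ?_) (fun b => ?_)
  · show S.s * S.γ (stdS 0 (ux a)) * S.s⁻¹ = S.xa a
    have e : S.s⁻¹ * S.xa a * S.s = S.γ (tvS ee a) := by
      have h0 : Commute (S.h1 (-1)) (S.xa a) := S.γ_xa _ a
      calc S.s⁻¹ * S.xa a * S.s = S.nn (-1) * S.xa a * (S.nn (-1))⁻¹ := by
            rw [S.nn_neg_one, inv_inv]
        _ = S.h1 (-1) * S.s * ((S.h1 (-1))⁻¹ * S.xa a) * S.h1 (-1) * S.s⁻¹ * (S.h1 (-1))⁻¹ := by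
            rw [nn]; group
        _ = S.h1 (-1) * (S.s * S.xa a * S.s⁻¹) * (S.h1 (-1))⁻¹ := by
            rw [h0.inv_left.eq]; group
        _ = S.γ (tvS ee a) := by
            rw [S.s_conj_xa, h1, ← map_inv, ← map_mul, ← map_mul, tvS_conj,
              show act (stdS 0 (dh (-1 : Fˣ)⁻¹)) (ee : Vec F (m + 1)) = -ee by
                simp [ee, Chevalley.SingleBond.dh_val, inv_neg],
              tvS_neg_vec]
    rw [← tvS_ee, ← e]; group
  · show S.s * S.γ (stdS 0 (lx b)) * S.s⁻¹ = S.lb b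
    have := S.s_conj_γ_ff (-b)
    rwa [tvS_ff, neg_neg] at this

theorem s_inv_conj_plane (h : SpecialLinearGroup (Fin 2) F) :
    S.s⁻¹ * S.σ 0 h * S.s = S.γ (stdS 0 h) := by rw [← S.s_conj_plane]; group

theorem s_sq_mem : S.s * S.s ∈ S.par := by
  have h := S.nn_neg_one
  rw [nn] at h
  have h2 : S.s * S.h1 (-1) * S.s⁻¹ = S.dc ((-1 : Fˣ)⁻¹) := S.s_conj_plane _
  have e : S.s * S.s = (S.dc ((-1 : Fˣ)⁻¹))⁻¹ * S.h1 (-1) := by
    have : S.s * (S.h1 (-1) * S.s * (S.h1 (-1))⁻¹) = 1 := by rw [h, mul_inv_cancel]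
    calc S.s * S.s = (S.dc ((-1 : Fˣ)⁻¹))⁻¹ * (S.s * (S.h1 (-1) * S.s * (S.h1 (-1))⁻¹)) *
          S.h1 (-1) := by rw [← h2]; group
      _ = _ := by rw [this, mul_one]
  rw [e]
  exact mul_mem (inv_mem (S.dc_mem _)) (S.γ_mem _)

theorem nn_mul_s_mem (b : Fˣ) : S.nn b * S.s ∈ S.par := by
  rw [nn, S.h1_inv, show S.h1 b * S.s * S.γ (stdS 0 (dh b)) * S.s =
    S.h1 b * (S.s * S.γ (stdS 0 (dh b)) * S.s⁻¹) * (S.s * S.s) by group, S.s_conj_plane]
  exact mul_mem (mul_mem (S.γ_mem _) (S.dc_mem b)) S.s_sq_mem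

theorem s_conj_T_mem {v : Vec F (m + 1)} (h : om v ee = 0) : S.s⁻¹ * S.T v * S.s ∈ S.par := by
  have e : S.s⁻¹ * S.T v * S.s = (S.x1 1)⁻¹ * ((S.y1 1)⁻¹ * ((S.x1 1)⁻¹ * S.T v *
      ((S.x1 1)⁻¹)⁻¹) * ((S.y1 1)⁻¹)⁻¹) * S.x1 1 := by rw [s]; group
  rw [e]
  refine mul_mem (mul_mem (inv_mem (S.T_mem _)) ?_) (S.T_mem _)
  rw [S.x1_neg, x1, S.T_conj_T, S.y1_neg, y1,
    show ∀ a b c : X, a * (b * c) * a⁻¹ = (a * b * a⁻¹) * (a * c * a⁻¹) from fun a b c => by group]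
  exact mul_mem (S.T'_conj_T_mem (by rw [om_smul_left, om_swap, h, neg_zero, mul_zero]))
    (S.T'_conj_xa_mem _ _)

/-! ### The cosets -/

/-- Membership in `P ∪ P w P ∪ P s P`. -/
def In (x : X) : Prop :=
  x ∈ S.par ∨ (∃ a ∈ S.par, ∃ b ∈ S.par, x = a * S.w * b) ∨
    ∃ a ∈ S.par, ∃ b ∈ S.par, x = a * S.s * b

theorem In.mul_left {x a : X} (h : S.In x) (ha : a ∈ S.par) : S.In (a * x) := by
  rcases h with h | ⟨a', ha', b, hb, rfl⟩ | ⟨a', ha', b, hb, rfl⟩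
  · exact .inl (mul_mem ha h)
  · exact .inr (.inl ⟨a * a', mul_mem ha ha', b, hb, by group⟩)
  · exact .inr (.inr ⟨a * a', mul_mem ha ha', b, hb, by group⟩)

theorem In.mul_right {x a : X} (h : S.In x) (ha : a ∈ S.par) : S.In (x * a) := by
  rcases h with h | ⟨a', ha', b, hb, rfl⟩ | ⟨a', ha', b, hb, rfl⟩
  · exact .inl (mul_mem h ha)
  · exact .inr (.inl ⟨a', ha', b * a, mul_mem hb ha, by group⟩)
  · exact .inr (.inr ⟨a', ha', b * a, mul_mem hb ha, by group⟩)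

theorem In_T' (v : Vec F (m + 1)) : S.In (S.T' v) := by
  by_cases hv : v = 0
  · rw [hv, S.T'_zero]; exact .inl (one_mem _)
  obtain ⟨g, rfl⟩ := exists_act_eq ee_ne_zero hv
  have e : S.T' (act g ee) =
      (S.γ g * (S.x1 1)⁻¹) * S.s * ((S.x1 1)⁻¹ * (S.γ g)⁻¹) := by
    calc S.T' (act g ee) = S.γ g * S.y1 1 * (S.γ g)⁻¹ := by
          rw [y1, one_smul, S.γ_T', mul_inv_cancel_right]
      _ = _ := by rw [s]; group
  rw [e]
  exact .inr (.inr ⟨_, mul_mem (S.γ_mem _) (inv_mem (S.T_mem _)), _,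
    mul_mem (inv_mem (S.T_mem _)) (inv_mem (S.γ_mem _)), rfl⟩)

theorem In_T'_lb (v : Vec F (m + 1)) {z : F} (hz : z ≠ 0) : S.In (S.T' v * S.lb (-z)) := by
  have h := S.T_conj_lb z (z⁻¹ • v)
  rw [smul_smul, mul_inv_cancel₀ hz, one_smul, ← S.T'_lb] at h
  rw [eq_mul_inv_of_mul_eq h.symm]
  have e : (lx (-z) : SpecialLinearGroup (Fin 2) F) =
      ux (-z)⁻¹ * dh (Units.mk0 z hz)⁻¹ * wn * ux (-z)⁻¹ := by
    refine Subtype.ext ?_
    rw [Matrix.SpecialLinearGroup.coe_mul, Matrix.SpecialLinearGroup.coe_mul,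
      Matrix.SpecialLinearGroup.coe_mul, Chevalley.SingleBond.dh_val, ux_val, lx_val, wn_val]
    ext i j; fin_cases i <;> fin_cases j <;> simp [Matrix.mul_apply, inv_neg, hz]
  rw [lb, e, map_mul, map_mul, map_mul]
  refine In.mul_right S (In.mul_right S (In.mul_left S ?_ (S.T_mem _)) (inv_mem (S.T_mem _)))
    (inv_mem (S.γ_mem _))
  exact .inr (.inl ⟨_, mul_mem (S.xa_mem _) (S.dc_mem _), _, S.xa_mem _, rfl⟩)

theorem w_q (c : Fˣ) (g : Sp F (m + 1)) (v : Vec F (m + 1)) (z : F) :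
    S.w * S.q c g v z = S.dc c⁻¹ * S.γ g * (S.w * S.T v * S.xa z) := by
  rw [q, ← mul_assoc, ← mul_assoc, ← mul_assoc, S.w_dc, mul_assoc (S.dc c⁻¹) S.w, ← S.γ_w]
  group

theorem In_w_mul {x : X} (h : S.In x) : S.In (S.w * x) := by
  rcases h with h | ⟨a, ⟨c, g, v, z, rfl⟩, b, hb, rfl⟩ | ⟨a, ⟨c, g, v, z, rfl⟩, b, hb, rfl⟩
  · exact .inr (.inl ⟨1, one_mem _, x, h, by group⟩)
  · rw [← mul_assoc, ← mul_assoc, S.w_q, mul_assoc (S.dc c⁻¹ * S.γ g)]
    refine In.mul_right S (In.mul_left S ?_ (mul_mem (S.dc_mem _) (S.γ_mem _))) hb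
    have hww : S.w * S.w ∈ S.par := by rw [S.w_sq]; exact S.dc_mem _
    by_cases hz : z = 0
    · subst hz
      rw [S.xa_zero, mul_one, show S.w * S.T v * S.w = S.T' v * (S.w * S.w) by rw [T']; group]
      exact In.mul_right S (S.In_T' v) hww
    · rw [show S.w * S.T v * S.xa z * S.w = S.T' v * (S.w * S.xa z * S.w⁻¹) * (S.w * S.w) by
        rw [T']; group, S.w_xa, mul_inv_cancel_right]
      exact In.mul_right S (S.In_T'_lb v hz) hww
  · rw [← mul_assoc, ← mul_assoc, S.w_q, mul_assoc (S.dc c⁻¹ * S.γ g)]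
    refine In.mul_right S (In.mul_left S ?_ (mul_mem (S.dc_mem _) (S.γ_mem _))) hb
    set t := om v ee
    set v' := v - t • ff with hv'
    have hperp : om v' ee = 0 := by
      rw [hv', om_sub_left, om_smul_left, om_ff_ee, mul_one, sub_self]
    have hT : S.T v = S.x1 t * S.T v' * S.xa (-om v' (t • ff)) := by
      rw [x1, S.T_mul, mul_assoc, S.xa_add, add_neg_cancel, S.xa_zero, mul_one,
        add_sub_cancel]
    rw [hT, show S.w * (S.x1 t * S.T v' * S.xa (-om v' (t • ff))) * S.xa z * S.s =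
      S.w * S.x1 t * S.s * ((S.s⁻¹ * S.T v' * S.s) * (S.s⁻¹ * (S.xa (-om v' (t • ff)) * S.xa z) * S.s))
      by group, S.xa_add]
    refine In.mul_right S ?_ (mul_mem (S.s_conj_T_mem hperp)
      (by rw [xa, S.s_inv_conj_plane]; exact S.γ_mem _))
    by_cases ht : t = 0
    · rw [ht, x1, zero_smul, S.T_zero, mul_one]
      refine .inr (.inr ⟨1, one_mem _, S.s⁻¹ * S.w * S.s, ?_, by group⟩)
      rw [w, S.s_inv_conj_plane]
      exact S.γ_mem _
    · obtain ⟨u, hu⟩ : ∃ u : Fˣ, (u : F) = t := ⟨Units.mk0 t ht, rfl⟩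
      rw [← hu, S.x1_eq, mul_assoc, mul_assoc _ (S.y1 (-(u : F)⁻¹)) S.s, ← S.s_x1,
        ← mul_assoc _ S.s, mul_assoc _ (S.nn u) S.s, mul_assoc _ (S.nn u * S.s), ← mul_assoc S.w]
      refine In.mul_right S ?_ (mul_mem (S.nn_mul_s_mem u) (S.T_mem _))
      rw [y1, T', ← mul_assoc, ← mul_assoc, S.w_sq, S.w_inv]
      exact .inr (.inl ⟨S.dc (-1) * S.T ((-(u : F)⁻¹) • ee) * S.dc (-1), mul_mem (mul_mem (S.dc_mem _) (S.T_mem _))
        (S.dc_mem _), 1, one_mem _, by group⟩)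

/-- Elements whose left multiplications preserve the three cosets. -/
def keep : Subgroup X where
  carrier := {u | (∀ x, S.In x → S.In (u * x)) ∧ ∀ x, S.In x → S.In (u⁻¹ * x)}
  one_mem' := by simp
  mul_mem' := by
    rintro a b ⟨ha, ha'⟩ ⟨hb, hb'⟩
    exact ⟨fun x hx => by rw [mul_assoc]; exact ha _ (hb _ hx),
      fun x hx => by rw [_root_.mul_inv_rev, mul_assoc]; exact hb' _ (ha' _ hx)⟩
  inv_mem' := by
    rintro a ⟨ha, ha'⟩
    exact ⟨ha', fun x hx => by rw [inv_inv]; exact ha _ hx⟩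

theorem par_le_keep : S.par ≤ S.keep := fun _ hu =>
  ⟨fun _ hx => In.mul_left S hx hu, fun _ hx => In.mul_left S hx (inv_mem hu)⟩

theorem w_mem_keep : S.w ∈ S.keep :=
  ⟨fun _ hx => S.In_w_mul hx,
    fun x hx => by rw [S.w_inv, mul_assoc]; exact In.mul_left S (S.In_w_mul hx) (S.dc_mem _)⟩

theorem σ_mem_keep : ∀ (k : Fin (m + 2)) (g : SpecialLinearGroup (Fin 2) F), S.σ k g ∈ S.keep := by
  intro k
  induction k using Fin.cases with
  | zero =>
    intro g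
    have hg := exists_normal_form g
    induction hg using Submonoid.closure_induction with
    | mem x hx =>
      rcases hx with (⟨a, rfl⟩ | ⟨c, rfl⟩) | hx
      · exact S.par_le_keep (S.xa_mem a)
      · exact S.par_le_keep (S.dc_mem c)
      · rw [Set.mem_singleton_iff.1 hx]; exact S.w_mem_keep
    | one => rw [map_one]; exact one_mem _
    | mul a b _ _ iha ihb => rw [map_mul]; exact mul_mem iha ihb
  | succ k =>
    intro g
    rw [← S.γσ]
    exact S.par_le_keep (S.γ_mem _)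

theorem μ_mem_keep : ∀ (i : Fin (m + 1)) (t : F × F × F), S.μ i t ∈ S.keep := by
  intro i
  induction i using Fin.cases with
  | zero =>
    rintro ⟨a, b, c⟩
    have e : S.μ 0 (a, b, c) = S.xa a * S.T (b • ee) * S.γ (stdS 0 (ux c)) := by
      rw [S.xa_eq_μ, S.T_smul_ee, S.γ_ux]
      exact S.eqMS (i := 0) (k := 0) (S.memM _ _ _)
        (mul_mem (mul_mem (S.memM _ _ _) (S.memM _ _ _)) (S.memM _ _ _))
        (by simp only [map_mul, S.pμ, stdM_add]; simp)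
    rw [e]
    exact S.par_le_keep (mul_mem (mul_mem (S.xa_mem _) (S.T_mem _)) (S.γ_mem _))
  | succ i =>
    intro t
    rw [← S.γμ]
    exact S.par_le_keep (S.γ_mem _)

theorem In_eq_one {x : X} (h : S.In x) (hp : S.p x = 1) : x = 1 := by
  rcases h with h | ⟨a, ha, b, hb, rfl⟩ | ⟨a, ha, b, hb, rfl⟩
  · exact S.par_eq_one h hp
  all_goals
    exfalso
    obtain ⟨c, g, v, z, rfl⟩ := ha
    obtain ⟨c', g', v', z', rfl⟩ := hb
    have h1 := congrArg (fun A => act A (ee : Vec F (m + 2))) hp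
  · simp [map_mul, p_q, p_w, wn_val, ee, ux_val, Chevalley.SingleBond.dh_val] at h1
  · have hs : ∀ α : F, act (S.p S.s) (mk α 0 0) = mk 0 0 (α • ee) := fun α => by
      rw [← mk_zero, act_s]; simp [ee]
    have h2 := congrArg tail h1
    simp [map_mul, p_q, hs, show (ee : Vec F (m + 2)) = mk 1 0 0 from rfl, ux_val,
      Chevalley.SingleBond.dh_val, act_smul] at h2
    have h3 := congrArg (act g⁻¹) h2
    simp [act_smul] at h3
    exact ee_ne_zero h3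

end CfsgLib.Classical.SpAmalgam.Step
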