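import Cfsg.Agent.Lib.Classical.SpAmalgam.Space

/-!
# Matrix identities, stabilizers and generation for the amalgam presentation of `Sp`
-/

set_option autoImplicit false

open Matrix

namespace CfsgLib.Classical.SpAmalgam

open CfsgLib.Chevalley.SL2 CfsgLib.Chevalley.SingleBond

variable {F : Type*} [Field F] {m : ℕ}

theorem mul_inv_eq_of_comm {G : Type*} [Group G] {a b c : G} (h : a * b = c * a) :
    a * b * a⁻¹ = c := mul_inv_eq_iff_eq_mul.2 h

theorem exists_act_eq {u u' : Vec F m} (hu : u ≠ 0) (hu' : u' ≠ 0) : ∃ A : Sp F m, act A u = u' :=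
  sp_transitive m hu hu'

theorem exists_act_pair {u v u' v' : Vec F m} (h : om u v = 1) (h' : om u' v' = 1) :
    ∃ A : Sp F m, act A u = u' ∧ act A v = v' := by
  obtain ⟨A, -, h1, h2⟩ := spGL_exists_pair m h h'
  exact ⟨A, h1, h2⟩

theorem exists_om_eq_one {u : Vec F m} (hu : u ≠ 0) : ∃ v, om u v = 1 := by
  obtain ⟨v, hv⟩ := alt_exists_partner (sympBil_nondegenerate m).1 hu
  exact ⟨v, by rwa [sympBil_apply] at hv⟩

@[simp] theorem om_mk_ee (α β : F) (v : Vec F m) : om (mk α β v) ee = β := by simp [ee]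

@[simp] theorem om_mk_ff (α β : F) (v : Vec F m) : om (mk α β v) ff = -α := by simp [ff]

theorem om_ff_ee : om (ff : Vec F (m + 1)) ee = 1 := by simp [ff]

theorem om_ee_ff : om (ee : Vec F (m + 1)) ff = -1 := by simp [ee]

theorem act_emb_ee (g : Sp F m) : act (emb g) ee = ee := by simp [ee]

/-! ### Identities -/

theorem emb_conj_tG (g : Sp F m) (v : Vec F m) :
    emb g * tG v * (emb g)⁻¹ = tG (act g v) := mul_inv_eq_of_comm <| ext_mk fun α β x => by
  simp [act_add, act_smul]

theorem tG_zero : tG (0 : Vec F m) = 1 := ext_mk fun α β x => by simp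

theorem tG_mul (v w : Vec F m) : tG v * tG w = tG (v + w) * stdS 0 (ux (om w v)) :=
  ext_mk fun α β x => by
    simp [ux_val, om_add_left, om_smul_left, om_add_right, smul_add]
    exact ⟨by ring, by abel⟩

theorem stdS0_comm_emb (h : SpecialLinearGroup (Fin 2) F) (g : Sp F m) :
    stdS 0 h * emb g = emb g * stdS 0 h := ext_mk fun α β x => by simp

theorem ux_comm_tG (a : F) (v : Vec F m) : stdS 0 (ux a) * tG v = tG v * stdS 0 (ux a) :=
  ext_mk fun α β x => by simp [ux_val]; ring

theorem dh_conj_tG (c : Fˣ) (v : Vec F m) :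
    stdS 0 (dh c) * tG v * (stdS 0 (dh c))⁻¹ = tG ((c : F) • v) :=
  mul_inv_eq_of_comm <| ext_mk fun α β x => by
    simp [Chevalley.SingleBond.dh_val, om_smul_right, smul_smul, mul_add, mul_comm (c : F)⁻¹]

theorem stdM_zero_mid (a : F) : stdM (0 : Fin (m + 1)) (0, a, 0) = tG (a • ee) :=
  ext_mk fun α β x => by
    obtain ⟨p, q, y, rfl⟩ := exists_mk x
    simp only [act_stdM_zero, act_tG, single_inl_zero]
    simp [ee, mul_comm]

theorem stdM_zero_left (a : F) : stdM (0 : Fin (m + 1)) (a, 0, 0) = stdS 0 (ux a) :=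
  ext_mk fun α β x => by simp [ux_val]

theorem stdM_zero_right (c : F) : stdM (0 : Fin (m + 1)) (0, 0, c) = emb (stdS 0 (ux c)) :=
  ext_mk fun α β x => by
    obtain ⟨p, q, y, rfl⟩ := exists_mk x
    simp only [act_stdM_zero, act_emb, act_stdS_zero, single_inl_zero, mk_inr_zero]
    simp [ee, ux_val]

theorem stdM_add (i : Fin m) (t t' : F × F × F) : stdM i t * stdM i t' = stdM i (t + t') :=
  ext_act fun u => by
    rw [act_mul, act_stdM, act_stdM, act_stdM]
    funext x
    have h : ∀ (k l : Fin (m + 1)) (a : F),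
        (Pi.single (.inl k) a : Vec F (m + 1)) (.inr l) = 0 := fun k l a => by simp
    simp [Pi.single_apply]
    split_ifs <;> ring

theorem stdM_zero_eq (i : Fin m) : stdM i (0 : F × F × F) = 1 := ext_act fun u => by
  simp [act_stdM]

theorem stdM_inv (i : Fin m) (t : F × F × F) : (stdM i t)⁻¹ = stdM i (-t) :=
  inv_eq_of_mul_eq_one_right (by rw [stdM_add, add_neg_cancel, stdM_zero_eq])

theorem tvS_ee (c : F) : tvS (ee : Vec F (m + 1)) c = stdS 0 (ux c) := ext_mk fun α β x => by
  rw [act_tvS, om_mk_ee]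
  simp [ee, ux_val]

theorem tvS_ff (c : F) : tvS (ff : Vec F (m + 1)) c = stdS 0 (lx (-c)) := ext_mk fun α β x => by
  rw [act_tvS, om_mk_ff]
  simp [ff, lx_val, add_comm]

theorem tvS_conj (g : Sp F m) (v : Vec F m) (c : F) :
    g * tvS v c * g⁻¹ = tvS (act g v) c := mul_inv_eq_of_comm <| ext_act fun u => by
  simp [act_add, act_smul]

theorem tvS_fix (v u : Vec F m) (c : F) (h : om u v = 0) : act (tvS v c) u = u := by simp [h]

theorem tvS_zero (v : Vec F m) : tvS v 0 = 1 := ext_act fun u => by simp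

theorem tvS_zero_vec (c : F) : tvS (0 : Vec F m) c = 1 := ext_act fun u => by simp

/-- The Heisenberg group of the opposite side. -/
def tG' (v : Vec F m) : Sp F (m + 1) := stdS 0 wn * tG v * (stdS 0 wn)⁻¹

theorem stdS_inv (j : Fin m) (g : SpecialLinearGroup (Fin 2) F) :
    (stdS j g)⁻¹ = stdS j g⁻¹ := (map_inv _ _).symm

theorem wn_inv_val : ((wn : SpecialLinearGroup (Fin 2) F)⁻¹).1 = !![0, -1; 1, 0] := by
  rw [Matrix.SpecialLinearGroup.coe_inv, Matrix.adjugate_fin_two, wn_val]
  simp

@[simp] theorem act_tG' (v : Vec F m) (α β : F) (x : Vec F m) :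
    act (tG' v) (mk α β x) = mk α (β - om x v) (x + α • v) := by
  rw [tG', stdS_inv]
  simp [wn_inv_val, wn_val, -map_inv]
  ring

theorem tail_add (u u' : Vec F (m + 1)) : tail (u + u') = tail u + tail u' := by
  funext x; rcases x with k | k <;> rfl

theorem tail_smul (c : F) (u : Vec F (m + 1)) : tail (c • u) = c • tail u := by
  funext x; rcases x with k | k <;> rfl

/-- An element of `SL₂` with first column `(α, β)`. -/
def colMat (α β : F) (h : β ≠ 0) : SpecialLinearGroup (Fin 2) F :=
  ⟨!![α, -β⁻¹; β, 0], by simp [Matrix.det_fin_two, h]⟩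

theorem colMat_val (α β : F) (h : β ≠ 0) : (colMat α β h).1 = !![α, -β⁻¹; β, 0] := rfl

/-! ### Stabilizers -/

theorem eq_emb_of_fix {g : Sp F (m + 1)} (he : act g ee = ee) (hf : act g ff = ff) :
    ∃ h, g = emb h := by
  have key : ∀ v, act g (mk 0 0 v) = mk 0 0 (tail (act g (mk 0 0 v))) := fun v => by
    obtain ⟨a, b, x, hx⟩ := exists_mk (act g (mk 0 0 v))
    have h1 := om_act g (mk 0 0 v) ee
    have h2 := om_act g (mk 0 0 v) ff
    rw [he, hx, om_mk_ee, om_mk_ee] at h1
    rw [hf, hx, om_mk_ff, om_mk_ff] at h2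
    rw [hx, h1, neg_inj.1 h2, tail_mk]
  let f : Vec F m →ₗ[F] Vec F m :=
    { toFun := fun v => tail (act g (mk 0 0 v))
      map_add' := fun v v' => by
        rw [show mk (0 : F) 0 (v + v') = mk 0 0 v + mk 0 0 v' by simp, act_add, tail_add]
      map_smul' := fun c v => by
        rw [show mk (0 : F) 0 (c • v) = c • mk 0 0 v by simp, act_smul, tail_smul]; rfl }
  refine ⟨ofLin f fun u v => ?_, ext_mk fun α β x => ?_⟩
  · have := om_act g (mk 0 0 u) (mk 0 0 v)
    rw [key u, key v, om_mk, om_mk] at this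
    simpa [f] using this
  · have h : mk α β x = α • (ee : Vec F (m + 1)) + β • ff + mk 0 0 x := by simp [ee, ff]
    rw [act_emb, act_ofLin, h, act_add, act_add, act_smul, act_smul, he, hf, key x]
    simp [ee, ff, f]

theorem stab_ee {g : Sp F (m + 1)} (he : act g ee = ee) :
    ∃ (v : Vec F m) (a : F) (h : Sp F m), g = tG v * stdS 0 (ux a) * emb h := by
  obtain ⟨a, b, v, hx⟩ := exists_mk (act g ff)
  have h1 := om_act g ff ee
  rw [he, hx, om_mk_ee, om_ff_ee] at h1
  subst h1
  obtain ⟨h, hh⟩ := eq_emb_of_fix (g := (tG v * stdS 0 (ux a))⁻¹ * g)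
    (by rw [act_mul, he]; exact act_inv_eq (by simp [ee, ux_val]))
    (by rw [act_mul, hx]; exact act_inv_eq (by simp [ff, ux_val]))
  exact ⟨v, a, h, by rw [← hh, mul_inv_cancel_left]⟩

/-! ### Ranges -/

theorem act_single (A : Sp F m) (i : Fin m ⊕ Fin m) (x : Fin m ⊕ Fin m) :
    act A (Pi.single i 1) x = A.1 x i := by simp [act]

theorem mem_range_stdS {j : Fin m} {A : Sp F m}
    (h : ∀ k, k ≠ j → act A (Pi.single (.inl k) 1) = Pi.single (.inl k) 1 ∧
      act A (Pi.single (.inr k) 1) = Pi.single (.inr k) 1) :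
    A ∈ (stdS j).range := by
  have hk : ∀ k, k ≠ j → ∀ u, act A u (.inl k) = u (.inl k) ∧ act A u (.inr k) = u (.inr k) := by
    intro k hk u
    constructor
    · have := om_act A u (Pi.single (.inr k) 1)
      rw [(h k hk).2] at this
      simpa [om, sympForm_eq, Pi.single_apply] using this
    · have := om_act A u (Pi.single (.inl k) 1)
      rw [(h k hk).1] at this
      simpa [om, sympForm_eq, Pi.single_apply] using this
  have hdet : A.1 (.inl j) (.inl j) * A.1 (.inr j) (.inr j) -
      A.1 (.inl j) (.inr j) * A.1 (.inr j) (.inl j) = 1 := by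
    have := om_act A (Pi.single (.inr j) 1) (Pi.single (.inl j) 1)
    simp only [om, sympForm_eq] at this
    rw [Finset.sum_eq_single_of_mem j (Finset.mem_univ _) (fun k _ hkj => by
      rw [(hk k hkj _).1, (hk k hkj _).1, (hk k hkj _).2, (hk k hkj _).2]; simp [hkj])] at this
    simp only [act_single] at this
    simp [Pi.single_apply] at this
    linear_combination this
  let g : SpecialLinearGroup (Fin 2) F := ⟨!![A.1 (.inl j) (.inl j), A.1 (.inl j) (.inr j);
    A.1 (.inr j) (.inl j), A.1 (.inr j) (.inr j)], by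
      rw [Matrix.det_fin_two_of]; linear_combination hdet⟩
  have hg : g.1 = !![A.1 (.inl j) (.inl j), A.1 (.inl j) (.inr j);
    A.1 (.inr j) (.inl j), A.1 (.inr j) (.inr j)] := rfl
  refine ⟨g, ?_⟩
  have hcol : ∀ k x, k ≠ j → A.1 x (.inl k) = (Pi.single (.inl k) 1 : Vec F m) x ∧
      A.1 x (.inr k) = (Pi.single (.inr k) 1 : Vec F m) x := fun k x hk' =>
    ⟨by rw [← act_single, (h k hk').1], by rw [← act_single, (h k hk').2]⟩
  refine ext_act fun u => funext fun x => ?_
  rw [act_stdS]
  rcases x with k | k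
  · simp only [Sum.elim_inl]
    split_ifs with hkj
    · subst hkj
      simp only [act, Matrix.mulVec, dotProduct, Fintype.sum_sum_type]
      rw [Finset.sum_eq_single_of_mem k (Finset.mem_univ _) (fun l _ hl => by
          simp [(hcol l _ hl).1, Ne.symm hl]),
        Finset.sum_eq_single_of_mem k (Finset.mem_univ _) (fun l _ hl => by
          simp [(hcol l _ hl).2])]
      simp [hg]
    · rw [(hk k hkj u).1]
  · simp only [Sum.elim_inr]
    split_ifs with hkj
    · subst hkj
      simp only [act, Matrix.mulVec, dotProduct, Fintype.sum_sum_type]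
      rw [Finset.sum_eq_single_of_mem k (Finset.mem_univ _) (fun l _ hl => by
          simp [(hcol l _ hl).1]),
        Finset.sum_eq_single_of_mem k (Finset.mem_univ _) (fun l _ hl => by
          simp [(hcol l _ hl).2, Ne.symm hl])]
      simp [hg]
    · rw [(hk k hkj u).2]

theorem stdS_fix (j k : Fin m) (hk : k ≠ j) (g : SpecialLinearGroup (Fin 2) F) :
    act (stdS j g) (Pi.single (.inl k) 1) = Pi.single (.inl k) 1 ∧
      act (stdS j g) (Pi.single (.inr k) 1) = Pi.single (.inr k) 1 := by
  constructor <;> funext x <;> rw [act_stdS] <;> rcases x with l | l <;>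
    simp [Pi.single_apply] <;> rintro rfl <;> simp [Ne.symm hk]

theorem mem_range_stdM {i : Fin m} {A : Sp F (m + 1)}
    (he : ∀ k, act A (Pi.single (.inl k) 1) = Pi.single (.inl k) 1)
    (hf : ∀ k, k ≠ i.castSucc → k ≠ i.succ →
      act A (Pi.single (.inr k) 1) = Pi.single (.inr k) 1) :
    A ∈ Set.range (stdM i) := by
  have hr : ∀ u k, act A u (.inr k) = u (.inr k) := fun u k => by
    have := om_act A u (Pi.single (.inl k) 1)
    rw [he k] at this
    simpa [om, sympForm_eq, Pi.single_apply] using this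
  have hl : ∀ u k, k ≠ i.castSucc → k ≠ i.succ → act A u (.inl k) = u (.inl k) := fun u k h1 h2 => by
    have := om_act A u (Pi.single (.inr k) 1)
    rw [hf k h1 h2] at this
    simpa [om, sympForm_eq, Pi.single_apply] using this
  have hne : i.castSucc ≠ i.succ := (Fin.castSucc_lt_succ (i := i)).ne
  have hsym : A.1 (.inl i.castSucc) (.inr i.succ) = A.1 (.inl i.succ) (.inr i.castSucc) := by
    have := om_act A (Pi.single (.inr i.castSucc) 1) (Pi.single (.inr i.succ) 1)
    simp [om, sympForm_eq, hr, Finset.sum_sub_distrib, Pi.single_apply] at this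
    simp only [act_single] at this
    linear_combination this
  refine ⟨(A.1 (.inl i.castSucc) (.inr i.castSucc), A.1 (.inl i.castSucc) (.inr i.succ),
    A.1 (.inl i.succ) (.inr i.succ)), Subtype.ext (Matrix.ext_of_mulVec_single fun q => ?_)⟩
  show act _ _ = act A _
  rw [act_stdM]
  rcases q with q | q
  · simp [he q]
  · funext x
    rcases x with k | k
    · by_cases hkc : k = i.castSucc
      · subst hkc
        by_cases hq1 : q = i.castSucc
        · subst hq1; simp [act_single, hne, hne.symm]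
        · by_cases hq2 : q = i.succ
          · subst hq2; simp [act_single, hne, hne.symm]
          · simp [hf q hq1 hq2, hne, Ne.symm hq1, Ne.symm hq2]
      · by_cases hks : k = i.succ
        · subst hks
          by_cases hq1 : q = i.castSucc
          · subst hq1; simp [act_single, hne, hne.symm, hsym]
          · by_cases hq2 : q = i.succ
            · subst hq2; simp [act_single, hne, hne.symm]
            · simp [hf q hq1 hq2, hne.symm, Ne.symm hq1, Ne.symm hq2]
        · rw [hl _ k hkc hks]; simp [hkc, hks]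
    · rw [hr]; simp

theorem stdM_fix (i : Fin m) (t : F × F × F) :
    (∀ k, act (stdM i t) (Pi.single (.inl k) 1) = Pi.single (.inl k) 1) ∧
    ∀ k, k ≠ i.castSucc → k ≠ i.succ →
      act (stdM i t) (Pi.single (.inr k) 1) = Pi.single (.inr k) 1 :=
  ⟨fun k => by simp [act_stdM], fun k h1 h2 => by simp [act_stdM, Ne.symm h1, Ne.symm h2]⟩

/-! ### Generation -/

variable (F) in
/-- The amalgamated generators. -/
def gens (m : ℕ) : Set (Sp F (m + 1)) :=
  (⋃ j, Set.range (stdS j)) ∪ ⋃ i : Fin m, Set.range (stdM i)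

theorem stdS_mem_gens (j : Fin (m + 1)) (g : SpecialLinearGroup (Fin 2) F) :
    stdS j g ∈ gens F m := .inl (Set.mem_iUnion.2 ⟨j, g, rfl⟩)

theorem stdM_mem_gens (i : Fin m) (t : F × F × F) :
    stdM i t ∈ gens F m := .inr (Set.mem_iUnion.2 ⟨i, t, rfl⟩)

variable (F) in
/-- `Sp` is generated by the amalgamated subgroups. -/
theorem closure_gens : ∀ m : ℕ, Subgroup.closure (gens F m) = ⊤
  | 0 => eq_top_iff.2 fun A _ => by
    obtain ⟨g, rfl⟩ := mem_range_stdS (j := (0 : Fin 1)) (A := A)
      (fun k hk => absurd (Subsingleton.elim k 0) hk)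
    exact Subgroup.subset_closure (stdS_mem_gens _ g)
  | m + 1 => eq_top_iff.2 fun A _ => by
    set Γ := Subgroup.closure (gens F (m + 1)) with hΓ
    have hemb : ∀ g, emb g ∈ Γ := fun g => by
      have : Subgroup.closure (gens F m) ≤ Γ.comap emb := by
        rw [Subgroup.closure_le]
        rintro x (hx | hx)
        · obtain ⟨j, g, rfl⟩ := Set.mem_iUnion.1 hx
          show emb _ ∈ Γ
          rw [← stdS_succ]
          exact Subgroup.subset_closure (stdS_mem_gens _ _)
        · obtain ⟨i, t, rfl⟩ := Set.mem_iUnion.1 hx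
          show emb _ ∈ Γ
          rw [← stdM_succ]
          exact Subgroup.subset_closure (stdM_mem_gens _ _)
      exact this (by rw [closure_gens m]; exact Subgroup.mem_top g)
    have hS : ∀ g, stdS 0 g ∈ Γ := fun g => Subgroup.subset_closure (stdS_mem_gens _ g)
    have ht : ∀ v, tG v ∈ Γ := fun v => by
      by_cases hv : v = 0
      · rw [hv, tG_zero]; exact one_mem _
      · obtain ⟨g, rfl⟩ := exists_act_eq ee_ne_zero hv
        rw [← emb_conj_tG]
        refine mul_mem (mul_mem (hemb g) ?_) (inv_mem (hemb g))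
        rw [← one_smul F (ee : Vec F (m + 1)), ← stdM_zero_mid]
        exact Subgroup.subset_closure (stdM_mem_gens _ _)
    have back : ∀ {M u}, M ∈ Γ → (∃ N ∈ Γ, act N ee = act M u) → ∃ N ∈ Γ, act N ee = u :=
      fun {M u} hM ⟨N, hN, h⟩ => ⟨M⁻¹ * N, mul_mem (inv_mem hM) hN, by simp [h]⟩
    have r1 : ∀ α β v, β ≠ 0 → ∃ N ∈ Γ, act N ee = mk α β v := fun α β v hβ =>
      ⟨tG (β⁻¹ • v) * stdS 0 (colMat α β hβ),
        mul_mem (ht _) (hS _), by simp [ee, colMat_val, smul_smul, hβ]⟩
    have r2 : ∀ α β v, α ≠ 0 → ∃ N ∈ Γ, act N ee = mk α β v := fun α β v hα => by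
      by_cases hβ : β = 0
      · subst hβ
        refine back (hS (lx 1)) ?_
        simpa [lx_val] using r1 α α v hα
      · exact r1 α β v hβ
    have reach : ∀ u, u ≠ 0 → ∃ N ∈ Γ, act N ee = u := fun u hu => by
      obtain ⟨α, β, v, rfl⟩ := exists_mk u
      by_cases hβ : β = 0
      · by_cases hα : α = 0
        · subst hα hβ
          have hv : v ≠ 0 := fun h => hu (by rw [h, mk_zero])
          obtain ⟨v', hv'⟩ := exists_om_eq_one hv
          refine back (ht v') ?_
          simpa [hv'] using r2 1 0 v one_ne_zero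
        · exact r2 α β v hα
      · exact r1 α β v hβ
    have hu : act A ee ≠ 0 := fun h => ee_ne_zero (by rw [← act_inv_act A ee, h, act_zero])
    obtain ⟨N, hN, h⟩ := reach _ hu
    obtain ⟨v, a, g, hg⟩ := stab_ee (g := N⁻¹ * A) (by rw [act_mul, ← h, act_inv_act])
    rw [show A = N * (tG v * stdS 0 (ux a) * emb g) by rw [← hg, mul_inv_cancel_left]]
    exact mul_mem hN (mul_mem (mul_mem (ht _) (hS _)) (hemb g))

end CfsgLib.Classical.SpAmalgam
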