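import Cfsg.Agent.Lib.Classical.SpAmalgam.Cosets

/-!
# `Sp (m+1)` is the universal completion of its amalgam

Induction on the rank: the completion of the sub-amalgam of the last planes gives `γ`, the three
cosets give injectivity of `p` on the generated subgroup.
-/

set_option autoImplicit false

open Matrix

namespace CfsgLib.Classical.SpAmalgam

open CfsgLib.Chevalley.SL2

universe v

variable {F : Type*} [Field F]

namespace Amalgam

variable {m : ℕ} {X : Type v} [Group X]

/-- The subgroup generated by the amalgam. -/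
def gen (D : Amalgam F m X) : Subgroup X :=
  Subgroup.closure ((⋃ k, Set.range (D.σ k)) ∪ ⋃ i, Set.range (D.μ i))

theorem σ_mem_gen (D : Amalgam F m X) (k : Fin (m + 1)) (g : SpecialLinearGroup (Fin 2) F) :
    D.σ k g ∈ D.gen := Subgroup.subset_closure (.inl (Set.mem_iUnion.2 ⟨k, g, rfl⟩))

theorem μ_mem_gen (D : Amalgam F m X) (i : Fin m) (t : F × F × F) :
    D.μ i t ∈ D.gen := Subgroup.subset_closure (.inr (Set.mem_iUnion.2 ⟨i, t, rfl⟩))

/-- If `p` has trivial kernel on the generated subgroup, the inverse is the homomorphism. -/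
theorem exists_hom_of_ker (D : Amalgam F m X) (hk : ∀ x ∈ D.gen, D.p x = 1 → x = 1) :
    ∃ Φ : Sp F (m + 1) →* X, (∀ k g, Φ (stdS k g) = D.σ k g) ∧
      (∀ i t, Φ (stdM i t) = D.μ i t) ∧ ∀ A, D.p (Φ A) = A := by
  have hsurj : ∀ A, ∃ x : D.gen, D.p x = A := by
    intro A
    have : Subgroup.closure (gens F m) ≤ D.gen.map D.p := by
      rw [Subgroup.closure_le]
      rintro B (hB | hB)
      · obtain ⟨k, g, rfl⟩ := Set.mem_iUnion.1 hB
        exact ⟨_, D.σ_mem_gen k g, D.pσ k g⟩
      · obtain ⟨i, t, rfl⟩ := Set.mem_iUnion.1 hB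
        exact ⟨_, D.μ_mem_gen i t, D.pμ i t⟩
    obtain ⟨x, hx, h⟩ := this (by rw [closure_gens]; exact Subgroup.mem_top A)
    exact ⟨⟨x, hx⟩, h⟩
  choose f hf using hsurj
  have huniq : ∀ {x y : X}, x ∈ D.gen → y ∈ D.gen → D.p x = D.p y → x = y := fun hx hy h =>
    mul_inv_eq_one.1 (hk _ (mul_mem hx (inv_mem hy)) (by rw [map_mul, map_inv, h, mul_inv_cancel]))
  refine ⟨MonoidHom.mk' (fun A => (f A : X)) fun A B =>
    huniq (f _).2 (mul_mem (f A).2 (f B).2) (by rw [hf, map_mul, hf, hf]), ?_, ?_, hf⟩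
  · exact fun k g => huniq (f _).2 (D.σ_mem_gen k g) ((hf _).trans (D.pσ k g).symm)
  · exact fun i t => huniq (f _).2 (D.μ_mem_gen i t) ((hf _).trans (D.pμ i t).symm)

/-- The preimage of the stabilizer of the first plane. -/
def tailGroup (D : Amalgam F (m + 1) X) : Subgroup X := (emb (F := F)).range.comap D.p

/-- The projection of the preimage. -/
noncomputable def tailP (D : Amalgam F (m + 1) X) : D.tailGroup →* Sp F (m + 1) :=
  (MonoidHom.ofInjective (f := (emb : Sp F (m + 1) →* Sp F (m + 2))) emb_injective).symm.toMonoidHom.comp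
    ((D.p.comp D.tailGroup.subtype).codRestrict _ fun x => x.2)

theorem emb_tailP (D : Amalgam F (m + 1) X) (x : D.tailGroup) : emb (D.tailP x) = D.p x := by
  rw [tailP, MonoidHom.comp_apply, MulEquiv.coe_toMonoidHom, MonoidHom.apply_ofInjective_symm]
  rfl

theorem injOn_tailP (D : Amalgam F (m + 1) X) {α β : Type*} {f : α → X} {g : β → X}
    (f' : α → D.tailGroup) (g' : β → D.tailGroup) (hf : ∀ a, (f' a : X) = f a)
    (hg : ∀ b, (g' b : X) = g b)
    (h : Set.InjOn D.p (Subgroup.closure (Set.range f ∪ Set.range g) : Subgroup X)) :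
    Set.InjOn D.tailP (Subgroup.closure (Set.range f' ∪ Set.range g') : Subgroup D.tailGroup) := by
  have hle : Subgroup.closure (Set.range f' ∪ Set.range g') ≤
      (Subgroup.closure (Set.range f ∪ Set.range g)).comap D.tailGroup.subtype := by
    rw [Subgroup.closure_le]
    rintro x (⟨a, rfl⟩ | ⟨b, rfl⟩)
    · exact Subgroup.subset_closure (.inl ⟨a, (hf a).symm⟩)
    · exact Subgroup.subset_closure (.inr ⟨b, (hg b).symm⟩)
  intro x hx y hy e
  refine Subtype.ext (h (hle hx) (hle hy) ?_)
  rw [Subgroup.coe_subtype, ← D.emb_tailP, ← D.emb_tailP, e]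

/-- The amalgam of the last planes. -/
noncomputable def sub (D : Amalgam F (m + 1) X) : Amalgam F m D.tailGroup where
  p := D.tailP
  σ k := (D.σ k.succ).codRestrict D.tailGroup fun g =>
    ⟨stdS k g, by rw [D.pσ, stdS_succ]⟩
  μ i t := ⟨D.μ i.succ t, stdM i t, by rw [D.pμ, stdM_succ]⟩
  pσ k g := emb_injective ((D.emb_tailP _).trans ((D.pσ k.succ g).trans (stdS_succ k g)))
  pμ i t := emb_injective ((D.emb_tailP _).trans ((D.pμ i.succ t).trans (stdM_succ i t)))
  injSS k l h := D.injOn_tailP _ _ (fun _ => rfl) (fun _ => rfl)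
    (D.injSS k.succ l.succ fun e => h (Fin.succ_inj.1 e))
  injMM i i' h := D.injOn_tailP _ _ (fun _ => rfl) (fun _ => rfl)
    (D.injMM i.succ i'.succ fun e => h (Fin.succ_inj.1 e))
  injMS i k := D.injOn_tailP _ _ (fun _ => rfl) (fun _ => rfl) (D.injMS i.succ k.succ)

end Amalgam

/-- The universal property of `Sp (m+1)`. -/
theorem exists_hom (hF : ∃ a : F, a ≠ 0 ∧ a ≠ 1) :
    ∀ (m : ℕ) (X : Type v) [Group X] (D : Amalgam F m X),
      ∃ Φ : Sp F (m + 1) →* X, (∀ k g, Φ (stdS k g) = D.σ k g) ∧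
        (∀ i t, Φ (stdM i t) = D.μ i t) ∧ ∀ A, D.p (Φ A) = A
  | 0, X, _, D => by
    refine D.exists_hom_of_ker fun x hx hp => ?_
    have hle : D.gen ≤ (D.σ 0).range := by
      rw [Amalgam.gen, Subgroup.closure_le]
      rintro y (hy | hy)
      · obtain ⟨k, g, rfl⟩ := Set.mem_iUnion.1 hy
        obtain rfl : k = 0 := Fin.eq_zero k
        exact ⟨g, rfl⟩
      · obtain ⟨i, -⟩ := Set.mem_iUnion.1 hy
        exact i.elim0
    obtain ⟨g, rfl⟩ := hle hx
    rw [D.pσ] at hp
    have h1 := congrArg (fun A => act A (ee : Vec F 1)) hp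
    have h2 := congrArg (fun A => act A (ff : Vec F 1)) hp
    simp [ee] at h1
    simp [ff] at h2
    have hg : g = 1 := by
      refine Subtype.ext ?_
      rw [Matrix.SpecialLinearGroup.coe_one]
      ext i j
      fin_cases i <;> fin_cases j
      · simpa using h1.1
      · simpa using h2.1
      · simpa using h1.2
      · simpa using h2.2
    rw [hg, map_one]
  | m + 1, X, _, D => by
    obtain ⟨γ, hγσ, hγμ, hγp⟩ := exists_hom hF m D.tailGroup D.sub
    let S : Step F m X :=
      { D with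
        γ := D.tailGroup.subtype.comp γ
        γσ := fun k g => by simp only [MonoidHom.comp_apply, hγσ]; rfl
        γμ := fun i t => by simp only [MonoidHom.comp_apply, hγμ]; rfl
        pγ := fun g => by
          rw [MonoidHom.comp_apply, Subgroup.coe_subtype, ← D.emb_tailP]
          exact congrArg emb (hγp g)
        hF := hF }
    refine D.exists_hom_of_ker fun x hx hp => S.In_eq_one ?_ hp
    have hle : D.gen ≤ S.keep := by
      rw [Amalgam.gen, Subgroup.closure_le]
      rintro y (hy | hy)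
      · obtain ⟨k, g, rfl⟩ := Set.mem_iUnion.1 hy
        exact S.σ_mem_keep k g
      · obtain ⟨i, t, rfl⟩ := Set.mem_iUnion.1 hy
        exact S.μ_mem_keep i t
    simpa using (hle hx).1 1 (.inl (one_mem _))

end CfsgLib.Classical.SpAmalgam
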