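import Cfsg.Agent.Lib.Classical.SpAmalgam.Step

/-!
# The opposite Heisenberg elements and the parabolic subgroup in a completion of the amalgam
-/

set_option autoImplicit false

open Matrix

namespace CfsgLib.Classical.SpAmalgam.Step

open CfsgLib.Chevalley.SL2 CfsgLib.Chevalley.SingleBond

variable {F : Type*} [Field F] {m : ℕ} {X : Type*} [Group X] (S : Step F m X)

/-! ### Identities in `SL₂` -/

theorem sl_wn_sq : (wn : SpecialLinearGroup (Fin 2) F) * wn = dh (-1) := by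
  refine Subtype.ext ?_
  rw [Matrix.SpecialLinearGroup.coe_mul, wn_val, Chevalley.SingleBond.dh_val]
  ext i j; fin_cases i <;> fin_cases j <;> simp [Matrix.mul_apply, inv_neg]

theorem sl_wn_ux (a : F) : wn * ux a = lx (-a) * wn := by
  refine Subtype.ext ?_
  rw [Matrix.SpecialLinearGroup.coe_mul, Matrix.SpecialLinearGroup.coe_mul, wn_val, ux_val, lx_val]
  ext i j; fin_cases i <;> fin_cases j <;> simp [Matrix.mul_apply]

theorem sl_wn_lx (b : F) : wn * lx b = ux (-b) * wn := by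
  refine Subtype.ext ?_
  rw [Matrix.SpecialLinearGroup.coe_mul, Matrix.SpecialLinearGroup.coe_mul, wn_val, ux_val, lx_val]
  ext i j; fin_cases i <;> fin_cases j <;> simp [Matrix.mul_apply]

theorem sl_wn_dh (c : Fˣ) : wn * dh c = dh c⁻¹ * wn := by
  refine Subtype.ext ?_
  rw [Matrix.SpecialLinearGroup.coe_mul, Matrix.SpecialLinearGroup.coe_mul, wn_val,
    Chevalley.SingleBond.dh_val, Chevalley.SingleBond.dh_val]
  ext i j; fin_cases i <;> fin_cases j <;> simp [Matrix.mul_apply]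

theorem sl_ux_dh (c : Fˣ) (z : F) : ux z * dh c = dh c * ux (((c : F)⁻¹) ^ 2 * z) := by
  refine Subtype.ext ?_
  rw [Matrix.SpecialLinearGroup.coe_mul, Matrix.SpecialLinearGroup.coe_mul, ux_val, ux_val,
    Chevalley.SingleBond.dh_val]
  ext i j; fin_cases i <;> fin_cases j <;> simp [Matrix.mul_apply]
  field_simp

theorem sl_dh_mul (c d : Fˣ) : (dh c : SpecialLinearGroup (Fin 2) F) * dh d = dh (c * d) := by
  refine Subtype.ext ?_
  rw [Matrix.SpecialLinearGroup.coe_mul, Chevalley.SingleBond.dh_val, Chevalley.SingleBond.dh_val,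
    Chevalley.SingleBond.dh_val]
  ext i j; fin_cases i <;> fin_cases j <;> simp [Matrix.mul_apply, mul_comm]

theorem sl_dh_one : (dh 1 : SpecialLinearGroup (Fin 2) F) = 1 := by
  refine Subtype.ext ?_
  rw [Chevalley.SingleBond.dh_val]
  ext i j; fin_cases i <;> fin_cases j <;> simp

theorem dc_mul (c d : Fˣ) : S.dc c * S.dc d = S.dc (c * d) := by
  rw [dc, dc, dc, ← map_mul, sl_dh_mul]

@[simp] theorem dc_one : S.dc 1 = 1 := by rw [dc, sl_dh_one, map_one]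

theorem dc_inv (c : Fˣ) : (S.dc c)⁻¹ = S.dc c⁻¹ :=
  inv_eq_of_mul_eq_one_right (by rw [S.dc_mul, mul_inv_cancel, S.dc_one])

theorem xa_dc (c : Fˣ) (z : F) : S.xa z * S.dc c = S.dc c * S.xa (((c : F)⁻¹) ^ 2 * z) := by
  rw [xa, xa, dc, ← map_mul, ← map_mul, sl_ux_dh]

theorem w_sq : S.w * S.w = S.dc (-1) := by rw [w, dc, ← map_mul, sl_wn_sq]

theorem w_xa (a : F) : S.w * S.xa a = S.lb (-a) * S.w := by
  rw [w, xa, lb, ← map_mul, ← map_mul, sl_wn_ux]

theorem w_lb (b : F) : S.w * S.lb b = S.xa (-b) * S.w := by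
  rw [w, xa, lb, ← map_mul, ← map_mul, sl_wn_lx]

theorem w_dc (c : Fˣ) : S.w * S.dc c = S.dc c⁻¹ * S.w := by
  rw [w, dc, dc, ← map_mul, ← map_mul, sl_wn_dh]

theorem w_inv : S.w⁻¹ = S.dc (-1) * S.w := by
  refine inv_eq_of_mul_eq_one_right ?_
  rw [← mul_assoc, S.w_dc, inv_neg, inv_one, mul_assoc, S.w_sq, S.dc_mul, neg_mul_neg, one_mul,
    S.dc_one]

theorem γ_lb (g : Sp F (m + 1)) (b : F) : S.γ g * S.lb b = S.lb b * S.γ g := (S.γ_comm g _).symm

/-! ### The opposite Heisenberg elements -/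

/-- `T' v`. -/
noncomputable def T' (v : Vec F (m + 1)) : X := S.w * S.T v * S.w⁻¹

theorem pT' (v : Vec F (m + 1)) : S.p (S.T' v) = tG' v := by
  rw [T', map_mul, map_mul, map_inv, S.p_w, S.pT, tG']

theorem w_T' (v : Vec F (m + 1)) : S.w * S.T' v * S.w⁻¹ = S.T (-v) := by
  calc S.w * S.T' v * S.w⁻¹ = (S.w * S.w) * S.T v * (S.w * S.w)⁻¹ := by rw [T']; group
    _ = S.T (-v) := by rw [S.w_sq, S.dc_conj_T]; simp

@[simp] theorem T'_zero : S.T' 0 = 1 := by simp [T']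

theorem T'_mul (v u : Vec F (m + 1)) : S.T' v * S.T' u = S.T' (v + u) * S.lb (-om u v) := by
  have h : S.w * S.xa (om u v) * S.w⁻¹ = S.lb (-om u v) := by
    rw [S.w_xa, mul_inv_cancel_right]
  rw [← h, T', T', T']
  calc S.w * S.T v * S.w⁻¹ * (S.w * S.T u * S.w⁻¹) = S.w * (S.T v * S.T u) * S.w⁻¹ := by group
    _ = S.w * (S.T (v + u) * S.xa (om u v)) * S.w⁻¹ := by rw [S.T_mul]
    _ = _ := by group

theorem T'_neg (v : Vec F (m + 1)) : (S.T' v)⁻¹ = S.T' (-v) := by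
  rw [T', T', ← S.T_neg]; group

theorem T'_lb (v : Vec F (m + 1)) (b : F) : S.T' v * S.lb b = S.lb b * S.T' v := by
  have h : S.lb b = S.w * S.xa (-b) * S.w⁻¹ := by rw [S.w_xa, neg_neg, mul_inv_cancel_right]
  rw [h, T']
  calc S.w * S.T v * S.w⁻¹ * (S.w * S.xa (-b) * S.w⁻¹)
      = S.w * (S.T v * S.xa (-b)) * S.w⁻¹ := by group
    _ = S.w * (S.xa (-b) * S.T v) * S.w⁻¹ := by rw [S.T_xa]
    _ = _ := by group

theorem γ_T' (g : Sp F (m + 1)) (v : Vec F (m + 1)) :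
    S.γ g * S.T' v = S.T' (act g v) * S.γ g := by
  have h1 : Commute (S.γ g) S.w := S.γ_w g
  rw [T', T', ← mul_assoc, ← mul_assoc, h1.eq, mul_assoc S.w (S.γ g), S.γ_T, mul_assoc,
    mul_assoc _ _ S.w⁻¹, h1.inv_right.eq]
  group

theorem γ_T'_fix {g : Sp F (m + 1)} {v : Vec F (m + 1)} (h : act g v = v) :
    S.γ g * S.T' v = S.T' v * S.γ g := by rw [S.γ_T', h]

theorem γ_T_fix {g : Sp F (m + 1)} {v : Vec F (m + 1)} (h : act g v = v) :
    S.γ g * S.T v = S.T v * S.γ g := by rw [S.γ_T, h]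

/-- The basic relation. -/
theorem R5 (a : F) (v : Vec F (m + 1)) :
    S.xa a * S.T' v * S.xa (-a) = S.T (-a • v) * S.T' v * S.γ (tvS v (-a)) := by
  by_cases hv : v = 0
  · subst hv; simp [xa_add, tvS_zero_vec]
  obtain ⟨g, rfl⟩ := exists_act_eq ee_ne_zero hv
  have h0 : S.xa a * S.T' ee * S.xa (-a) = S.T (-a • ee) * S.T' ee * S.γ (tvS ee (-a)) := by
    rw [T', S.T_ee, tvS_ee, S.γ_ux, S.T_smul_ee]
    refine S.eqMS (i := 0) (k := 0)
      (mul_mem (mul_mem (S.memS 0 0 _)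
        (mul_mem (mul_mem (S.memS 0 0 _) (S.memM 0 0 _)) (inv_mem (S.memS 0 0 _)))) (S.memS 0 0 _))
      (mul_mem (mul_mem (S.memM 0 0 _)
        (mul_mem (mul_mem (S.memS 0 0 _) (S.memM 0 0 _)) (inv_mem (S.memS 0 0 _)))) (S.memM 0 0 _)) ?_
    simp only [map_mul, map_inv, S.p_xa, S.p_w, S.p_x12, S.pμ, stdM_zero_mid, stdM_zero_right]
    have := mat_R5 a (ee : Vec F (m + 1))
    rw [tG', tvS_ee] at this
    exact this
  have hT' : S.T' (act g ee) = S.γ g * S.T' ee * (S.γ g)⁻¹ := by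
    rw [S.γ_T', mul_inv_cancel_right]
  have hxa : Commute (S.γ g) (S.xa a) := S.γ_xa g a
  have hxa' : Commute (S.γ g) (S.xa (-a)) := S.γ_xa g (-a)
  rw [← act_smul, ← S.T_conj, hT', ← tvS_conj, map_mul, map_mul, map_inv]
  calc S.xa a * (S.γ g * S.T' ee * (S.γ g)⁻¹) * S.xa (-a)
      = (S.xa a * S.γ g) * S.T' ee * ((S.γ g)⁻¹ * S.xa (-a)) := by group
    _ = S.γ g * (S.xa a * S.T' ee * S.xa (-a)) * (S.γ g)⁻¹ := by
        rw [← hxa.eq, hxa'.inv_left.eq]; group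
    _ = _ := by rw [h0]; group

/-- Conjugation of `X` by `T'`. -/
theorem T'_conj_xa (a : F) (v : Vec F (m + 1)) :
    S.T' v * S.xa a * (S.T' v)⁻¹ = S.xa a * S.T (a • v) * S.γ (tvS v a) := by
  have h := S.R5 (-a) v
  rw [neg_neg] at h
  have h2 : S.γ (tvS v a) * S.T' v = S.T' v * S.γ (tvS v a) := S.γ_T'_fix (by simp)
  calc S.T' v * S.xa a * (S.T' v)⁻¹
      = S.xa a * (S.xa (-a) * S.T' v * S.xa a) * (S.T' v)⁻¹ := by
        rw [← mul_assoc (S.xa a), ← mul_assoc (S.xa a), S.xa_add, add_neg_cancel, S.xa_zero,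
          one_mul]
    _ = S.xa a * S.T (a • v) * (S.T' v * S.γ (tvS v a)) * (S.T' v)⁻¹ := by rw [h]; group
    _ = _ := by rw [← h2]; group

/-! ### The parabolic subgroup -/

/-- A normal form of an element of the parabolic subgroup. -/
noncomputable def q (c : Fˣ) (g : Sp F (m + 1)) (v : Vec F (m + 1)) (z : F) : X :=
  S.dc c * S.γ g * S.T v * S.xa z

/-- The normal forms are closed under multiplication. -/
theorem q_mul (c c' : Fˣ) (g g' : Sp F (m + 1)) (v v' : Vec F (m + 1)) (z z' : F) :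
    ∃ v'' z'', S.q c g v z * S.q c' g' v' z' = S.q (c * c') (g * g') v'' z'' := by
  set z₁ := ((c' : F)⁻¹) ^ 2 * z
  set v₁ := act g'⁻¹ ((c' : F)⁻¹ • v)
  refine ⟨v₁ + v', om v' v₁ + z₁ + z', ?_⟩
  have e1 : S.T v * S.dc c' = S.dc c' * S.T ((c' : F)⁻¹ • v) := by
    rw [S.dc_T, smul_smul, mul_inv_cancel₀ c'.ne_zero, one_smul]
  have e2 : S.T ((c' : F)⁻¹ • v) * S.γ g' = S.γ g' * S.T v₁ := by
    rw [S.γ_T]; simp only [v₁, act_act_inv]
  calc S.q c g v z * S.q c' g' v' z'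
      = S.dc c * S.γ g * S.T v * (S.xa z * S.dc c') * S.γ g' * S.T v' * S.xa z' := by
        rw [q, q]; group
    _ = S.dc c * S.γ g * (S.T v * S.dc c') * (S.xa z₁ * S.γ g') * S.T v' * S.xa z' := by
        rw [show S.xa z * S.dc c' = S.dc c' * S.xa z₁ from S.xa_dc c' z]; group
    _ = S.dc c * (S.γ g * S.dc c') * (S.T ((c' : F)⁻¹ • v) * S.γ g') * (S.xa z₁ * S.T v') *
          S.xa z' := by rw [e1, ← S.γ_xa]; group
    _ = (S.dc c * S.dc c') * (S.γ g * S.γ g') * (S.T v₁ * S.T v') * (S.xa z₁ * S.xa z') := by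
        rw [e2, S.γ_dc, ← S.T_xa]; group
    _ = _ := by rw [S.dc_mul, ← map_mul, S.T_mul, S.xa_add, q, add_assoc (om v' v₁), ← S.xa_add (om v' v₁)]; group

/-- The parabolic submonoid. -/
def parMonoid : Submonoid X where
  carrier := {x | ∃ c g v z, x = S.q c g v z}
  one_mem' := ⟨1, 1, 0, 0, by simp [q]⟩
  mul_mem' := by
    rintro _ _ ⟨c, g, v, z, rfl⟩ ⟨c', g', v', z', rfl⟩
    obtain ⟨v'', z'', h⟩ := S.q_mul c c' g g' v v' z z'
    exact ⟨_, _, _, _, h⟩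

/-- The parabolic subgroup. -/
def par : Subgroup X where
  toSubmonoid := S.parMonoid
  inv_mem' := by
    rintro _ ⟨c, g, v, z, rfl⟩
    have h : (S.q c g v z)⁻¹ = S.q 1 1 0 (-z) * S.q 1 1 (-v) 0 * S.q 1 g⁻¹ 0 0 * S.q c⁻¹ 1 0 0 := by
      simp [q, xa_inv, T_neg, dc_inv, mul_assoc]
    rw [h]
    have hq : ∀ c g v z, S.q c g v z ∈ S.parMonoid := fun c g v z => ⟨c, g, v, z, rfl⟩
    exact mul_mem (mul_mem (mul_mem (hq _ _ _ _) (hq _ _ _ _)) (hq _ _ _ _)) (hq _ _ _ _)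

theorem q_mem (c : Fˣ) (g : Sp F (m + 1)) (v : Vec F (m + 1)) (z : F) : S.q c g v z ∈ S.par :=
  ⟨c, g, v, z, rfl⟩

theorem xa_mem (a : F) : S.xa a ∈ S.par := ⟨1, 1, 0, a, by simp [q]⟩
theorem dc_mem (c : Fˣ) : S.dc c ∈ S.par := ⟨c, 1, 0, 0, by simp [q]⟩
theorem γ_mem (g : Sp F (m + 1)) : S.γ g ∈ S.par := ⟨1, g, 0, 0, by simp [q]⟩
theorem T_mem (v : Vec F (m + 1)) : S.T v ∈ S.par := ⟨1, 1, v, 0, by simp [q]⟩

theorem p_q (c : Fˣ) (g : Sp F (m + 1)) (v : Vec F (m + 1)) (z : F) :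
    S.p (S.q c g v z) = stdS 0 (dh c) * emb g * tG v * stdS 0 (ux z) := by
  rw [q, map_mul, map_mul, map_mul, S.p_dc, S.pγ, S.pT, S.p_xa]

theorem par_eq_one {x : X} (hx : x ∈ S.par) (h : S.p x = 1) : x = 1 := by
  obtain ⟨c, g, v, z, rfl⟩ := hx
  rw [S.p_q] at h
  have h1 := congrArg (fun A => act A (ee : Vec F (m + 2))) h
  simp [ee, ux_val, Chevalley.SingleBond.dh_val] at h1
  subst h1
  rw [sl_dh_one, map_one, one_mul] at h
  have h2 := congrArg (fun A => act A (ff : Vec F (m + 2))) h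
  simp [ff, ux_val] at h2
  obtain ⟨hz, hv⟩ := h2
  have hv' : v = 0 := by rw [← act_inv_act g v, hv, act_zero]
  subst hz hv'
  rw [sl_ux_zero, map_one, mul_one, tG_zero, mul_one, ← map_one (emb (F := F) (m := m + 1))] at h
  simp [q, emb_injective h]

/-- `p` is injective on the parabolic subgroup. -/
theorem par_ext {x y : X} (hx : x ∈ S.par) (hy : y ∈ S.par) (h : S.p x = S.p y) : x = y :=
  mul_inv_eq_one.1 (S.par_eq_one (mul_mem hx (inv_mem hy))
    (by rw [map_mul, map_inv, h, mul_inv_cancel]))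

/-- The opposite parabolic subgroup. -/
def par' : Subgroup X := S.par.map (MulAut.conj S.w).toMonoidHom

theorem conj_mem_par' {x : X} (hx : x ∈ S.par) : S.w * x * S.w⁻¹ ∈ S.par' := ⟨x, hx, rfl⟩

theorem par'_ext {x y : X} (hx : x ∈ S.par') (hy : y ∈ S.par') (h : S.p x = S.p y) : x = y := by
  obtain ⟨x, hx, rfl⟩ := hx
  obtain ⟨y, hy, rfl⟩ := hy
  simp only [MulEquiv.coe_toMonoidHom, MulAut.conj_apply, map_mul, mul_left_inj, mul_right_inj] at h
  rw [S.par_ext hx hy h]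

theorem γ_mem' (g : Sp F (m + 1)) : S.γ g ∈ S.par' := by
  have := S.conj_mem_par' (S.γ_mem g)
  rwa [← S.γ_w, mul_inv_cancel_right] at this

theorem T'_mem' (v : Vec F (m + 1)) : S.T' v ∈ S.par' := S.conj_mem_par' (S.T_mem v)

theorem lb_mem' (b : F) : S.lb b ∈ S.par' := by
  have := S.conj_mem_par' (S.xa_mem (-b))
  rwa [S.w_xa, neg_neg, mul_inv_cancel_right] at this

theorem T'_conj_xa_mem (a : F) (v : Vec F (m + 1)) : S.T' v * S.xa a * (S.T' v)⁻¹ ∈ S.par := by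
  rw [S.T'_conj_xa]
  exact mul_mem (mul_mem (S.xa_mem _) (S.T_mem _)) (S.γ_mem _)

/-- The image of `T'_conj_xa` under `w`. -/
theorem T_conj_lb (a : F) (v : Vec F (m + 1)) :
    S.T (-v) * S.lb (-a) * (S.T (-v))⁻¹ = S.lb (-a) * S.T' (a • v) * S.γ (tvS v a) := by
  have h := congrArg (fun x => S.w * x * S.w⁻¹) (S.T'_conj_xa a v)
  have h1 : S.w * S.xa a * S.w⁻¹ = S.lb (-a) := by rw [S.w_xa, mul_inv_cancel_right]
  have h2 : S.w * S.γ (tvS v a) * S.w⁻¹ = S.γ (tvS v a) := by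
    rw [← S.γ_w, mul_inv_cancel_right]
  calc S.T (-v) * S.lb (-a) * (S.T (-v))⁻¹
      = S.w * (S.T' v * S.xa a * (S.T' v)⁻¹) * S.w⁻¹ := by rw [← S.w_T', ← h1]; group
    _ = S.w * (S.xa a * S.T (a • v) * S.γ (tvS v a)) * S.w⁻¹ := h
    _ = (S.w * S.xa a * S.w⁻¹) * S.T' (a • v) * (S.w * S.γ (tvS v a) * S.w⁻¹) := by
        rw [T']; group
    _ = _ := by rw [h1, h2]

theorem T_conj_lb_mem (b : F) (v : Vec F (m + 1)) : S.T v * S.lb b * (S.T v)⁻¹ ∈ S.par' := by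
  have h := S.T_conj_lb (-b) (-v)
  rw [neg_neg, neg_neg] at h
  rw [h]
  exact mul_mem (mul_mem (S.lb_mem' _) (S.T'_mem' _)) (S.γ_mem' _)

/-- Conjugation of `T` by an orthogonal `T'`. -/
theorem T'_conj_T_mem {u v : Vec F (m + 1)} (h : om u v = 0) :
    S.T' u * S.T v * (S.T' u)⁻¹ ∈ S.par := by
  have h' : om v u = 0 := by rw [om_swap, h, neg_zero]
  have huv : act (tvS (u + v) (1 : F)) v = v := tvS_fix _ _ _ (by simp [om_add_right, h'])
  have huu : act (tvS (u + v) (1 : F)) u = u := tvS_fix _ _ _ (by simp [om_add_right, h])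
  have hua : act (tvS u (1 : F)) v = v := tvS_fix _ _ _ h'
  have hva : act (tvS v (1 : F)) u = u := tvS_fix _ _ _ h
  have E : ∀ x : Vec F (m + 1),
      S.xa (-1) * S.T' x * S.xa 1 = S.T x * S.T' x * S.γ (tvS x 1) := fun x => by
    have := S.R5 (-1) x
    simpa using this
  set a := S.γ (tvS u (1 : F))
  set b := S.γ (tvS v (1 : F))
  set c := S.γ (tvS (u + v) (1 : F))
  have key : S.T u * S.T v * (S.T' u * S.T' v) * c =
      S.T u * S.T' u * a * (S.T v * S.T' v * b) := by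
    rw [← E u, ← E v]
    have e1 : S.T u * S.T v = S.T (u + v) := by rw [S.T_mul, h', S.xa_zero, mul_one]
    have e2 : S.T' u * S.T' v = S.T' (u + v) := by
      rw [S.T'_mul, h', neg_zero, lb, show lx (0 : F) = 1 from Subtype.ext (by
        rw [lx_val]; ext i j; fin_cases i <;> fin_cases j <;> simp), map_one, mul_one]
    rw [e1, e2, ← E (u + v), ← e2]
    calc S.xa (-1) * (S.T' u * S.T' v) * S.xa 1
        = S.xa (-1) * S.T' u * (S.xa 1 * S.xa (-1)) * S.T' v * S.xa 1 := by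
          rw [S.xa_add, add_neg_cancel, S.xa_zero]; group
      _ = _ := by group
  have ca : Commute a (S.T v) := S.γ_T_fix hua
  have ca' : Commute a (S.T' v) := S.γ_T'_fix hua
  have cb' : Commute b (S.T' v) := S.γ_T'_fix (by simp)
  have cc' : Commute c (S.T' v) := S.γ_T'_fix huv
  have key2 : S.T v * S.T' u * c * S.T' v = S.T' u * S.T v * (a * b) * S.T' v := by
    have := key
    rw [mul_assoc (S.T u), mul_assoc (S.T u), mul_assoc (S.T u) (S.T' u), mul_assoc (S.T u),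
      mul_right_inj] at this
    calc S.T v * S.T' u * c * S.T' v = S.T v * (S.T' u * S.T' v) * c := by
          rw [mul_assoc _ c, cc'.eq]; group
      _ = S.T' u * a * (S.T v * S.T' v * b) := this
      _ = S.T' u * (a * S.T v) * (S.T' v * b) := by group
      _ = S.T' u * S.T v * a * (b * S.T' v) := by rw [ca.eq, cb'.eq]; group
      _ = _ := by group
  have key3 := mul_right_cancel key2
  have e : S.T' u * S.T v * (S.T' u)⁻¹ = S.T v * (c * (a * b)⁻¹) := by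
    have hfix : Commute (c * (a * b)⁻¹) (S.T' u) := (show Commute c (S.T' u) from
      S.γ_T'_fix huu).mul_left ((show Commute a (S.T' u) from S.γ_T'_fix (by simp)).mul_left
        (show Commute b (S.T' u) from S.γ_T'_fix hva)).inv_left
    calc S.T' u * S.T v * (S.T' u)⁻¹
        = S.T' u * S.T v * (a * b) * (a * b)⁻¹ * (S.T' u)⁻¹ := by group
      _ = S.T v * (S.T' u * (c * (a * b)⁻¹)) * (S.T' u)⁻¹ := by rw [← key3]; group
      _ = _ := by rw [← hfix.eq]; group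
  rw [e]
  exact mul_mem (S.T_mem _) (mul_mem (S.γ_mem _) (inv_mem (mul_mem (S.γ_mem _) (S.γ_mem _))))

/-- The image of `T'_conj_T_mem` under `w`. -/
theorem T_conj_T'_mem {u v : Vec F (m + 1)} (h : om u v = 0) :
    S.T u * S.T' v * (S.T u)⁻¹ ∈ S.par' := by
  have := S.conj_mem_par' (S.T'_conj_T_mem (u := -u) (v := v) (by rw [om_neg_left, h, neg_zero]))
  have e : S.w * (S.T' (-u) * S.T v * (S.T' (-u))⁻¹) * S.w⁻¹ =
      (S.w * S.T' (-u) * S.w⁻¹) * S.T' v * (S.w * S.T' (-u) * S.w⁻¹)⁻¹ := by rw [T', T']; group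
  rwa [e, S.w_T', neg_neg] at this

end CfsgLib.Classical.SpAmalgam.Step
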