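import Cfsg.Agent.Lib.Classical.SympMatrix
import Cfsg.Agent.Lib.Chevalley.SL2
import Cfsg.Agent.Lib.Chevalley.SingleBond.Blocks

/-!
# Coordinates for the amalgam presentation of the symplectic group: vectors and elements

`V (m+1) = F e ⊕ F f ⊕ V m` through `mk`; the elements `emb`, `tG`, `stdS`, `stdM`, `tvS` of the
symplectic group are given by their action.
-/

set_option autoImplicit false

open Matrix

namespace CfsgLib.Classical.SpAmalgam

open CfsgLib.Chevalley.SL2

variable {F : Type*} [Field F] {m : ℕ}

variable (F) in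
/-- Column vectors. -/
abbrev Vec (m : ℕ) := Fin m ⊕ Fin m → F

variable (F) in
/-- The symplectic group as a type. -/
abbrev Sp (m : ℕ) := ↥(Matrix.symplecticGroup (Fin m) F)

/-- The form. -/
abbrev om (u v : Vec F m) : F := Cfsg.sympForm m F u v

theorem om_add_left (u u' v : Vec F m) : om (u + u') v = om u v + om u' v := by
  simp only [om, ← sympBil_apply, map_add, LinearMap.add_apply]

theorem om_add_right (u v v' : Vec F m) : om u (v + v') = om u v + om u v' := by
  simp only [om, ← sympBil_apply, map_add]

theorem om_smul_left (c : F) (u v : Vec F m) : om (c • u) v = c * om u v := by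
  simp only [om, ← sympBil_apply, map_smul, LinearMap.smul_apply, smul_eq_mul]

theorem om_smul_right (c : F) (u v : Vec F m) : om u (c • v) = c * om u v := by
  simp only [om, ← sympBil_apply, map_smul, smul_eq_mul]

theorem om_neg_left (u v : Vec F m) : om (-u) v = -om u v := by
  simp only [om, ← sympBil_apply, map_neg, LinearMap.neg_apply]

theorem om_neg_right (u v : Vec F m) : om u (-v) = -om u v := by
  simp only [om, ← sympBil_apply, map_neg]

theorem om_sub_left (u u' v : Vec F m) : om (u - u') v = om u v - om u' v := by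
  simp only [om, ← sympBil_apply, map_sub, LinearMap.sub_apply]

theorem om_sub_right (u v v' : Vec F m) : om u (v - v') = om u v - om u v' := by
  simp only [om, ← sympBil_apply, map_sub]

@[simp] theorem om_self (v : Vec F m) : om v v = 0 := sympForm_self m v

theorem om_swap (u v : Vec F m) : om u v = -om v u := by
  simp only [om, ← sympBil_apply]; exact alt_swap (sympBil_isAlt m) u v

@[simp] theorem om_zero_left (v : Vec F m) : om 0 v = 0 := by simp [om, ← sympBil_apply]

@[simp] theorem om_zero_right (v : Vec F m) : om v 0 = 0 := by simp [om, ← sympBil_apply]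

/-! ### Vectors of `V (m+1)` -/

/-- The vector `α e + β f + v`. -/
def mk (α β : F) (v : Vec F m) : Vec F (m + 1) :=
  Sum.elim (Fin.cons α fun k => v (.inl k)) (Fin.cons β fun k => v (.inr k))

/-- The `V m` component. -/
def tail (u : Vec F (m + 1)) : Vec F m :=
  Sum.elim (fun k => u (.inl k.succ)) (fun k => u (.inr k.succ))

@[simp] theorem mk_inl_zero (α β : F) (v : Vec F m) : mk α β v (.inl 0) = α := rfl
@[simp] theorem mk_inr_zero (α β : F) (v : Vec F m) : mk α β v (.inr 0) = β := rfl
@[simp] theorem mk_inl_succ (α β : F) (v : Vec F m) (k : Fin m) :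
    mk α β v (.inl k.succ) = v (.inl k) := rfl
@[simp] theorem mk_inr_succ (α β : F) (v : Vec F m) (k : Fin m) :
    mk α β v (.inr k.succ) = v (.inr k) := rfl

@[simp] theorem tail_mk (α β : F) (v : Vec F m) : tail (mk α β v) = v := by
  funext x; rcases x with k | k <;> rfl

theorem mk_eta (u : Vec F (m + 1)) : mk (u (.inl 0)) (u (.inr 0)) (tail u) = u := by
  funext x
  rcases x with k | k <;> induction k using Fin.cases <;> rfl

theorem exists_mk (u : Vec F (m + 1)) : ∃ α β v, u = mk α β v := ⟨_, _, _, (mk_eta u).symm⟩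

@[simp] theorem mk_inj {α β α' β' : F} {v v' : Vec F m} :
    mk α β v = mk α' β' v' ↔ α = α' ∧ β = β' ∧ v = v' := by
  refine ⟨fun h => ⟨?_, ?_, ?_⟩, fun ⟨h1, h2, h3⟩ => by rw [h1, h2, h3]⟩
  · simpa using congrFun h (.inl 0)
  · simpa using congrFun h (.inr 0)
  · simpa using congrArg tail h

@[simp] theorem mk_add (α β α' β' : F) (v v' : Vec F m) :
    mk α β v + mk α' β' v' = mk (α + α') (β + β') (v + v') := by
  funext x
  rcases x with k | k <;> induction k using Fin.cases <;> simp

@[simp] theorem smul_mk (c α β : F) (v : Vec F m) : c • mk α β v = mk (c * α) (c * β) (c • v) := by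
  funext x
  rcases x with k | k <;> induction k using Fin.cases <;> simp

@[simp] theorem neg_mk (α β : F) (v : Vec F m) : -mk α β v = mk (-α) (-β) (-v) := by
  funext x
  rcases x with k | k <;> induction k using Fin.cases <;> simp

theorem mk_zero : mk (0 : F) 0 (0 : Vec F m) = 0 := by
  funext x
  rcases x with k | k <;> induction k using Fin.cases <;> simp

@[simp] theorem om_mk (α β α' β' : F) (v v' : Vec F m) :
    om (mk α β v) (mk α' β' v') = β * α' - α * β' + om v v' := by
  simp [om, sympForm_eq, Fin.sum_univ_succ]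
  ring

/-- `e`. -/
def ee : Vec F (m + 1) := mk 1 0 0

/-- `f`. -/
def ff : Vec F (m + 1) := mk 0 1 0

theorem ee_ne_zero : (ee : Vec F (m + 1)) ≠ 0 := fun h => by
  simpa [ee] using congrFun h (.inl 0)

/-! ### The action -/

/-- The action on column vectors. -/
def act (A : Sp F m) (u : Vec F m) : Vec F m := A.1 *ᵥ u

@[simp] theorem act_one (u : Vec F m) : act (1 : Sp F m) u = u := Matrix.one_mulVec u

@[simp] theorem act_mul (A B : Sp F m) (u : Vec F m) : act (A * B) u = act A (act B u) :=
  (Matrix.mulVec_mulVec _ _ _).symm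

@[simp] theorem act_inv_act (A : Sp F m) (u : Vec F m) : act A⁻¹ (act A u) = u := by
  rw [← act_mul, inv_mul_cancel, act_one]

@[simp] theorem act_act_inv (A : Sp F m) (u : Vec F m) : act A (act A⁻¹ u) = u := by
  rw [← act_mul, mul_inv_cancel, act_one]

theorem act_inv_eq {A : Sp F m} {u v : Vec F m} (h : act A u = v) : act A⁻¹ v = u := by
  rw [← h, act_inv_act]

theorem ext_act {A B : Sp F m} (h : ∀ u, act A u = act B u) : A = B :=
  Subtype.ext (Matrix.ext_of_mulVec_single fun i => h _)

theorem ext_mk {A B : Sp F (m + 1)} (h : ∀ α β v, act A (mk α β v) = act B (mk α β v)) : A = B :=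
  ext_act fun u => by rw [← mk_eta u]; exact h _ _ _

@[simp] theorem om_act (A : Sp F m) (u v : Vec F m) : om (act A u) (act A v) = om u v :=
  (mem_symplecticGroup_iff_preserves m).1 A.2 u v

@[simp] theorem act_zero (A : Sp F m) : act A 0 = 0 := Matrix.mulVec_zero _

theorem act_add (A : Sp F m) (u v : Vec F m) : act A (u + v) = act A u + act A v :=
  Matrix.mulVec_add _ _ _

theorem act_sub (A : Sp F m) (u v : Vec F m) : act A (u - v) = act A u - act A v :=
  Matrix.mulVec_sub _ _ _

theorem act_neg (A : Sp F m) (u : Vec F m) : act A (-u) = -act A u := Matrix.mulVec_neg _ _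

theorem act_smul (A : Sp F m) (c : F) (u : Vec F m) : act A (c • u) = c • act A u :=
  Matrix.mulVec_smul _ _ _

instance : Subsingleton (Sp F 0) :=
  ⟨fun _ _ => Subtype.ext (Matrix.ext fun i _ => i.elim (fun a => a.elim0) (fun a => a.elim0))⟩

/-- A symplectic matrix from a linear map preserving the form. -/
def ofLin (f : Vec F m →ₗ[F] Vec F m) (h : ∀ u v, om (f u) (f v) = om u v) : Sp F m :=
  ⟨LinearMap.toMatrix' f, (mem_symplecticGroup_iff_preserves m).2 fun u v => by
    rw [LinearMap.toMatrix'_mulVec, LinearMap.toMatrix'_mulVec]; exact h u v⟩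

@[simp] theorem act_ofLin (f : Vec F m →ₗ[F] Vec F m) (h : ∀ u v, om (f u) (f v) = om u v)
    (u : Vec F m) : act (ofLin f h) u = f u := LinearMap.toMatrix'_mulVec f u

/-! ### The embedding of `Sp m` -/

/-- The action on the last `m` planes. -/
def embLin (g : Sp F m) : Vec F (m + 1) →ₗ[F] Vec F (m + 1) where
  toFun u := mk (u (.inl 0)) (u (.inr 0)) (act g (tail u))
  map_add' u u' := by
    obtain ⟨α, β, v, rfl⟩ := exists_mk u
    obtain ⟨α', β', v', rfl⟩ := exists_mk u'
    simp [act_add]
  map_smul' c u := by
    obtain ⟨α, β, v, rfl⟩ := exists_mk u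
    simp [act_smul]

/-- The point stabilizer of the hyperbolic pair. -/
def emb : Sp F m →* Sp F (m + 1) where
  toFun g := ofLin (embLin g) fun u v => by
    obtain ⟨α, β, x, rfl⟩ := exists_mk u
    obtain ⟨α', β', y, rfl⟩ := exists_mk v
    simp [embLin]
  map_one' := ext_mk fun α β v => by simp [embLin]
  map_mul' g h := ext_mk fun α β v => by simp [embLin]

@[simp] theorem act_emb (g : Sp F m) (α β : F) (v : Vec F m) :
    act (emb g) (mk α β v) = mk α β (act g v) := by simp [emb, embLin]

theorem emb_injective : Function.Injective (emb : Sp F m → Sp F (m + 1)) := fun g h e =>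
  ext_act fun v => by
    have := congrArg (fun A => act A (mk 0 0 v)) e
    simpa using this

/-! ### The Heisenberg group -/

/-- `f ↦ f + w`, `x ↦ x + ω(x,w) e`. -/
def tGLin (w : Vec F m) : Vec F (m + 1) →ₗ[F] Vec F (m + 1) where
  toFun u := mk (u (.inl 0) + om (tail u) w) (u (.inr 0)) (tail u + u (.inr 0) • w)
  map_add' u u' := by
    obtain ⟨α, β, v, rfl⟩ := exists_mk u
    obtain ⟨α', β', v', rfl⟩ := exists_mk u'
    simp only [mk_add, tail_mk, mk_inl_zero, mk_inr_zero, om_add_left, add_smul, mk_inj, true_and]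
    exact ⟨by ring, by abel⟩
  map_smul' c u := by
    obtain ⟨α, β, v, rfl⟩ := exists_mk u
    simp [om_smul_left, mul_add, smul_add, smul_smul]

/-- The element `tG w`. -/
def tG (w : Vec F m) : Sp F (m + 1) := ofLin (tGLin w) fun u v => by
  obtain ⟨α, β, x, rfl⟩ := exists_mk u
  obtain ⟨α', β', y, rfl⟩ := exists_mk v
  simp [tGLin, om_add_left, om_add_right, om_smul_left, om_smul_right, om_swap w y]
  ring

@[simp] theorem act_tG (w : Vec F m) (α β : F) (v : Vec F m) :
    act (tG w) (mk α β v) = mk (α + om v w) β (v + β • w) := by simp [tG, tGLin]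

/-! ### Transvections -/

/-- `u ↦ u + c ω(u,w) w`. -/
def tvLin (w : Vec F m) (c : F) : Vec F m →ₗ[F] Vec F m where
  toFun u := u + (c * om u w) • w
  map_add' u u' := by simp [om_add_left, mul_add, add_smul]; abel
  map_smul' a u := by simp [om_smul_left, smul_add, smul_smul]; ring_nf

/-- The transvection. -/
def tvS (w : Vec F m) (c : F) : Sp F m := ofLin (tvLin w c) fun u v => by
  simp [tvLin, om_add_left, om_add_right, om_smul_left, om_smul_right, om_swap w v]
  ring

@[simp] theorem act_tvS (w : Vec F m) (c : F) (u : Vec F m) :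
    act (tvS w c) u = u + (c * om u w) • w := by simp [tvS, tvLin]

/-! ### The plane elements -/

/-- `g` acting on the `j`-th plane. -/
def sLin (j : Fin m) (g : SpecialLinearGroup (Fin 2) F) : Vec F m →ₗ[F] Vec F m where
  toFun u := Sum.elim
    (fun k => if k = j then g.1 0 0 * u (.inl k) + g.1 0 1 * u (.inr k) else u (.inl k))
    (fun k => if k = j then g.1 1 0 * u (.inl k) + g.1 1 1 * u (.inr k) else u (.inr k))
  map_add' u u' := by
    funext x
    rcases x with k | k <;> simp <;> split_ifs <;> ring
  map_smul' c u := by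
    funext x
    rcases x with k | k <;> simp <;> split_ifs <;> ring

/-- `SL₂` on the `j`-th plane. -/
def stdS (j : Fin m) : SpecialLinearGroup (Fin 2) F →* Sp F m where
  toFun g := ofLin (sLin j g) fun u v => by
    simp only [om, sympForm_eq]
    refine Finset.sum_congr rfl fun k _ => ?_
    simp only [sLin, LinearMap.coe_mk, AddHom.coe_mk, Sum.elim_inl, Sum.elim_inr]
    split_ifs with hk
    · have := Chevalley.SingleBond.det_two g
      linear_combination (u (.inr k) * v (.inl k) - u (.inl k) * v (.inr k)) * this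
    · rfl
  map_one' := ext_act fun u => by
    funext x
    rcases x with k | k <;> simp [sLin]
  map_mul' g h := ext_act fun u => by
    funext x
    rcases x with k | k <;> simp [sLin] <;> split_ifs <;>
      simp [Matrix.mul_apply, Fin.sum_univ_two] <;> ring

theorem act_stdS (j : Fin m) (g : SpecialLinearGroup (Fin 2) F) (u : Vec F m) :
    act (stdS j g) u = Sum.elim
      (fun k => if k = j then g.1 0 0 * u (.inl k) + g.1 0 1 * u (.inr k) else u (.inl k))
      (fun k => if k = j then g.1 1 0 * u (.inl k) + g.1 1 1 * u (.inr k) else u (.inr k)) := by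
  simp [stdS, sLin]

@[simp] theorem act_stdS_zero (g : SpecialLinearGroup (Fin 2) F) (α β : F) (v : Vec F m) :
    act (stdS 0 g) (mk α β v) =
      mk (g.1 0 0 * α + g.1 0 1 * β) (g.1 1 0 * α + g.1 1 1 * β) v := by
  funext x
  rw [act_stdS]
  rcases x with k | k <;> induction k using Fin.cases <;> simp [Fin.succ_ne_zero]

theorem stdS_succ (k : Fin m) (g : SpecialLinearGroup (Fin 2) F) :
    stdS k.succ g = emb (stdS k g) := ext_mk fun α β v => by
  funext x
  rw [act_emb, act_stdS, act_stdS]
  rcases x with l | l <;> induction l using Fin.cases <;> simp [(Fin.succ_ne_zero _).symm]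

/-! ### The symmetric elements -/

/-- The upper unitriangular element with symmetric block `[[a,b],[b,c]]` on `castSucc i`, `succ i`. -/
def mLin (i : Fin m) (t : F × F × F) : Vec F (m + 1) →ₗ[F] Vec F (m + 1) where
  toFun u := u + Pi.single (.inl i.castSucc)
      (t.1 * u (.inr i.castSucc) + t.2.1 * u (.inr i.succ)) +
    Pi.single (.inl i.succ) (t.2.1 * u (.inr i.castSucc) + t.2.2 * u (.inr i.succ))
  map_add' u u' := by
    funext x
    simp only [Pi.add_apply, Pi.single_apply]
    split_ifs <;> ring
  map_smul' c u := by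
    funext x
    simp only [Pi.add_apply, Pi.smul_apply, Pi.single_apply, RingHom.id_apply, smul_eq_mul]
    split_ifs <;> ring

/-- `stdM i (a,b,c)`. -/
def stdM (i : Fin m) (t : F × F × F) : Sp F (m + 1) := ofLin (mLin i t) fun u v => by
  have h : ∀ (w : Vec F (m + 1)) (k : Fin (m + 1)) (x : F),
      om w (Pi.single (.inl k) x) = w (.inr k) * x := fun w k x => by
    simp [om, sympForm_eq, Pi.single_apply]
  have h' : ∀ (w : Vec F (m + 1)) (k : Fin (m + 1)) (x : F),
      om (Pi.single (.inl k) x) w = -(w (.inr k) * x) := fun w k x => by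
    rw [om_swap, h]
  simp only [mLin, LinearMap.coe_mk, AddHom.coe_mk, om_add_left, om_add_right, h, h']
  simp [Pi.single_apply]
  ring

theorem act_stdM (i : Fin m) (t : F × F × F) (u : Vec F (m + 1)) :
    act (stdM i t) u = u + Pi.single (.inl i.castSucc)
      (t.1 * u (.inr i.castSucc) + t.2.1 * u (.inr i.succ)) +
    Pi.single (.inl i.succ) (t.2.1 * u (.inr i.castSucc) + t.2.2 * u (.inr i.succ)) := by
  simp [stdM, mLin]

@[simp] theorem act_stdM_zero (a b c : F) (α β : F) (v : Vec F (m + 1)) :
    act (stdM 0 (a, b, c)) (mk α β v) =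
      mk (α + a * β + b * v (.inr 0)) β (v + Pi.single (.inl 0) (b * β + c * v (.inr 0))) := by
  funext x
  rw [act_stdM]
  rcases x with k | k <;> induction k using Fin.cases <;>
    simp [Pi.single_apply, Fin.succ_ne_zero, (Fin.succ_ne_zero _).symm, -Fin.succ_zero_eq_one,
      -Fin.succ_zero_eq_one']
  rw [add_assoc]

theorem stdM_succ (i : Fin m) (t : F × F × F) : stdM i.succ t = emb (stdM i t) :=
  ext_mk fun α β v => by
    funext x
    rw [act_emb, act_stdM, act_stdM]
    rcases x with k | k <;> induction k using Fin.cases <;>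
      simp [Pi.single_apply, (Fin.succ_ne_zero _).symm]

theorem single_inl_zero (x : F) :
    (Pi.single (.inl 0) x : Vec F (m + 1)) = x • (ee : Vec F (m + 1)) := by
  funext y
  rcases y with k | k <;> induction k using Fin.cases <;>
    simp [ee, Fin.succ_ne_zero]

end CfsgLib.Classical.SpAmalgam
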