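import Cfsg.Agent.Lib.Classical.SpAmalgam.Gen

/-!
# The relations in a completion of the amalgam

From the amalgam for `Sp (m+2)` and the map `γ` on `Sp (m+1)` given by induction we build the
Heisenberg elements `T v`, their Weyl conjugates `T' v`, and derive the relations between them.
-/

set_option autoImplicit false

open Matrix

namespace CfsgLib.Classical.SpAmalgam

open CfsgLib.Chevalley.SL2 CfsgLib.Chevalley.SingleBond

variable (F : Type*) [Field F]

/-- The data of a completion of the amalgam over `Sp (m+1)`. -/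
structure Amalgam (m : ℕ) (X : Type*) [Group X] where
  ofFields ::
  p : X →* Sp F (m + 1)
  σ : Fin (m + 1) → (SpecialLinearGroup (Fin 2) F →* X)
  μ : Fin m → F × F × F → X
  pσ : ∀ k g, p (σ k g) = stdS k g
  pμ : ∀ i t, p (μ i t) = stdM i t
  injSS : ∀ k l, k ≠ l → Set.InjOn p (Subgroup.closure (Set.range (σ k) ∪ Set.range (σ l)) : Subgroup X)
  injMM : ∀ i i', i ≠ i' → Set.InjOn p (Subgroup.closure (Set.range (μ i) ∪ Set.range (μ i')) : Subgroup X)
  injMS : ∀ i k, Set.InjOn p (Subgroup.closure (Set.range (μ i) ∪ Set.range (σ k)) : Subgroup X)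

/-- The data of the induction step. -/
structure Step (m : ℕ) (X : Type*) [Group X] extends Amalgam F (m + 1) X where
  ofFields ::
  γ : Sp F (m + 1) →* X
  γσ : ∀ k g, γ (stdS k g) = σ k.succ g
  γμ : ∀ i t, γ (stdM i t) = μ i.succ t
  pγ : ∀ g, p (γ g) = emb g
  hF : ∃ a : F, a ≠ 0 ∧ a ≠ 1

variable {F}

/-- Matrix form of the basic relation between `X` and `tG'`. -/
theorem mat_R5 {n : ℕ} (a : F) (v : Vec F n) :
    stdS 0 (ux a) * tG' v * stdS 0 (ux (-a)) = tG (-a • v) * tG' v * emb (tvS v (-a)) :=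
  ext_mk fun α β x => by
    simp [ux_val, om_smul_right, om_smul_left, om_add_left, om_neg_left, om_neg_right, add_smul, smul_smul]
    refine ⟨?_, ?_⟩
    · ring
    · match_scalars <;> ring

theorem comm_emb_tG_ee {n : ℕ} {g : Sp F (n + 1)} (h : act g ee = ee) :
    emb g * tG ee = tG ee * emb g := by
  have := emb_conj_tG g ee
  rw [h, mul_inv_eq_iff_eq_mul] at this
  exact this

namespace Step

variable {m : ℕ} {X : Type*} [Group X] (S : Step F m X)

/-- `f ↦ f + a e`. -/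
def xa (a : F) : X := S.σ 0 (ux a)

/-- `e ↦ e + b f`. -/
def lb (b : F) : X := S.σ 0 (lx b)

/-- The Weyl element. -/
def w : X := S.σ 0 wn

/-- The torus. -/
def dc (c : Fˣ) : X := S.σ 0 (dh c)

theorem p_xa (a : F) : S.p (S.xa a) = stdS 0 (ux a) := S.pσ _ _

theorem p_lb (b : F) : S.p (S.lb b) = stdS 0 (lx b) := S.pσ _ _

theorem p_w : S.p S.w = stdS 0 wn := S.pσ _ _

theorem p_dc (c : Fˣ) : S.p (S.dc c) = stdS 0 (dh c) := S.pσ _ _

theorem sl_ux_add (a b : F) : ux a * ux b = ux (a + b) := by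
  refine Subtype.ext ?_
  rw [Matrix.SpecialLinearGroup.coe_mul, ux_val, ux_val, ux_val]
  ext i j; fin_cases i <;> fin_cases j <;> simp [Matrix.mul_apply, add_comm]

theorem sl_ux_zero : ux (0 : F) = 1 := by
  refine Subtype.ext ?_
  ext i j; fin_cases i <;> fin_cases j <;> simp [ux_val]

theorem xa_add (a b : F) : S.xa a * S.xa b = S.xa (a + b) := by
  rw [xa, xa, xa, ← map_mul, sl_ux_add]

@[simp] theorem xa_zero : S.xa 0 = 1 := by rw [xa, sl_ux_zero, map_one]

theorem xa_inv (a : F) : (S.xa a)⁻¹ = S.xa (-a) :=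
  inv_eq_of_mul_eq_one_right (by rw [S.xa_add, add_neg_cancel, S.xa_zero])

theorem eqMS {i : Fin (m + 1)} {k : Fin (m + 2)} {x y : X}
    (hx : x ∈ Subgroup.closure (Set.range (S.μ i) ∪ Set.range (S.σ k)))
    (hy : y ∈ Subgroup.closure (Set.range (S.μ i) ∪ Set.range (S.σ k)))
    (h : S.p x = S.p y) : x = y := S.injMS i k hx hy h

theorem memM (i : Fin (m + 1)) (k : Fin (m + 2)) (t : F × F × F) :
    S.μ i t ∈ Subgroup.closure (Set.range (S.μ i) ∪ Set.range (S.σ k)) :=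
  Subgroup.subset_closure (.inl ⟨t, rfl⟩)

theorem memS (i : Fin (m + 1)) (k : Fin (m + 2)) (g : SpecialLinearGroup (Fin 2) F) :
    S.σ k g ∈ Subgroup.closure (Set.range (S.μ i) ∪ Set.range (S.σ k)) :=
  Subgroup.subset_closure (.inr ⟨g, rfl⟩)

theorem xa_eq_μ (a : F) : S.xa a = S.μ 0 (a, 0, 0) :=
  S.eqMS (S.memS 0 0 _) (S.memM 0 0 _) (by rw [S.p_xa, S.pμ, stdM_zero_left])

theorem γ_ux (c : F) : S.γ (stdS 0 (ux c)) = S.μ 0 (0, 0, c) := by
  rw [S.γσ]
  exact S.eqMS (S.memS 0 _ _) (S.memM 0 _ _) (by rw [S.pσ, S.pμ, stdM_zero_right, stdS_succ])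

theorem γ_comm (g : Sp F (m + 1)) (h : SpecialLinearGroup (Fin 2) F) :
    S.σ 0 h * S.γ g = S.γ g * S.σ 0 h := by
  have hg : g ∈ Subgroup.closure (gens F m) := by rw [closure_gens]; exact Subgroup.mem_top g
  induction hg using Subgroup.closure_induction with
  | mem x hx =>
    rcases hx with hx | hx
    · obtain ⟨k, g', rfl⟩ := Set.mem_iUnion.1 hx
      rw [S.γσ]
      refine S.injSS 0 k.succ (Fin.succ_ne_zero k).symm ?_ ?_ ?_
      · exact mul_mem (Subgroup.subset_closure (.inl ⟨h, rfl⟩))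
          (Subgroup.subset_closure (.inr ⟨g', rfl⟩))
      · exact mul_mem (Subgroup.subset_closure (.inr ⟨g', rfl⟩))
          (Subgroup.subset_closure (.inl ⟨h, rfl⟩))
      · rw [map_mul, map_mul, S.pσ, S.pσ, stdS_succ, stdS0_comm_emb]
    · obtain ⟨i, t, rfl⟩ := Set.mem_iUnion.1 hx
      rw [S.γμ]
      exact S.eqMS (mul_mem (S.memS _ _ h) (S.memM _ 0 t)) (mul_mem (S.memM _ 0 t) (S.memS _ _ h))
        (by rw [map_mul, map_mul, S.pσ, S.pμ, stdM_succ, stdS0_comm_emb])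
  | one => rw [map_one, mul_one, one_mul]
  | mul a b _ _ iha ihb => rw [map_mul, ← mul_assoc, iha, mul_assoc, ihb, mul_assoc]
  | inv a _ iha => rw [map_inv]; exact (Commute.inv_right (show Commute _ _ from iha)).eq

theorem γ_xa (g : Sp F (m + 1)) (a : F) : S.γ g * S.xa a = S.xa a * S.γ g := (S.γ_comm g _).symm

theorem γ_w (g : Sp F (m + 1)) : S.γ g * S.w = S.w * S.γ g := (S.γ_comm g _).symm

theorem γ_dc (g : Sp F (m + 1)) (c : Fˣ) : S.γ g * S.dc c = S.dc c * S.γ g := (S.γ_comm g _).symm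

/-- The basic element `tG (e₂)`. -/
def x12 : X := S.μ 0 (0, 1, 0)

theorem p_x12 : S.p S.x12 = tG ee := by rw [x12, S.pμ, stdM_zero_mid, one_smul]

theorem x12_comm_σ (k : Fin m) (h : SpecialLinearGroup (Fin 2) F) :
    S.γ (stdS k.succ h) * S.x12 = S.x12 * S.γ (stdS k.succ h) := by
  rw [S.γσ]
  refine S.eqMS (mul_mem (S.memS 0 _ _) (S.memM 0 _ _)) (mul_mem (S.memM 0 _ _) (S.memS 0 _ _)) ?_
  rw [map_mul, map_mul, S.pσ, S.p_x12, stdS_succ]
  exact comm_emb_tG_ee (by rw [stdS_succ, act_emb_ee])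

theorem x12_comm_μ (i : Fin (m + 1)) (hi : i ≠ 0) (t : F × F × F) (g : Sp F (m + 1))
    (hg : stdM i t = emb g) (he : act g ee = ee) : S.μ i t * S.x12 = S.x12 * S.μ i t := by
  refine S.injMM i 0 hi ?_ ?_ ?_
  · exact mul_mem (Subgroup.subset_closure (.inl ⟨_, rfl⟩)) (Subgroup.subset_closure (.inr ⟨_, rfl⟩))
  · exact mul_mem (Subgroup.subset_closure (.inr ⟨_, rfl⟩)) (Subgroup.subset_closure (.inl ⟨_, rfl⟩))
  · rw [map_mul, map_mul, S.pμ, S.p_x12, hg]
    exact comm_emb_tG_ee he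

theorem x12_comm_emb : ∀ {m : ℕ} (S : Step F m X) (h : Sp F m),
    S.γ (emb h) * S.x12 = S.x12 * S.γ (emb h)
  | 0, S, h => by rw [Subsingleton.elim h 1, map_one, map_one, one_mul, mul_one]
  | n + 1, S, h => by
    have hg : h ∈ Subgroup.closure (gens F n) := by rw [closure_gens]; exact Subgroup.mem_top h
    induction hg using Subgroup.closure_induction with
    | mem x hx =>
      rcases hx with hx | hx
      · obtain ⟨k, g', rfl⟩ := Set.mem_iUnion.1 hx
        rw [← stdS_succ]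
        exact S.x12_comm_σ k g'
      · obtain ⟨i, t, rfl⟩ := Set.mem_iUnion.1 hx
        rw [← stdM_succ, S.γμ]
        exact S.x12_comm_μ _ (Fin.succ_ne_zero _) t (emb (stdM i t))
          (by rw [stdM_succ, stdM_succ]) (act_emb_ee _)
    | one => rw [map_one, map_one, mul_one, one_mul]
    | mul a b _ _ iha ihb => rw [map_mul, map_mul, mul_assoc, ihb, ← mul_assoc, iha, mul_assoc]
    | inv a _ iha =>
      rw [map_inv, map_inv]; exact (Commute.inv_left (show Commute _ _ from iha)).eq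

theorem x12_comm_tG : ∀ {m : ℕ} (S : Step F m X) (v : Vec F m),
    S.γ (tG v) * S.x12 = S.x12 * S.γ (tG v)
  | 0, S, v => by
    rw [show v = 0 from funext fun x => x.elim (fun i => i.elim0) (fun i => i.elim0), tG_zero,
      map_one, one_mul, mul_one]
  | n + 1, S, v => by
    by_cases hv : v = 0
    · rw [hv, tG_zero, map_one, one_mul, mul_one]
    obtain ⟨g, rfl⟩ := exists_act_eq ee_ne_zero hv
    rw [← emb_conj_tG, map_mul, map_mul, map_inv]
    have h1 : S.γ (tG ee) * S.x12 = S.x12 * S.γ (tG ee) := by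
      rw [← one_smul F (ee : Vec F (n + 1)), ← stdM_zero_mid, S.γμ]
      exact S.x12_comm_μ _ (Fin.succ_ne_zero _) _ (tG ee) (by rw [stdM_succ, stdM_zero_mid, one_smul])
        (by simp [ee])
    have h2 : Commute (S.γ (emb g)) S.x12 := x12_comm_emb S g
    exact ((h2.mul_left h1).mul_left h2.inv_left).eq

theorem x12_comm {g : Sp F (m + 1)} (he : act g ee = ee) :
    Commute (S.γ g) S.x12 := by
  obtain ⟨v, a, h, rfl⟩ := stab_ee he
  rw [map_mul, map_mul]
  have h1 : Commute (S.γ (tG v)) S.x12 := x12_comm_tG S v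
  have h2 : Commute (S.γ (stdS 0 (ux a))) S.x12 := by
    rw [S.γ_ux]
    exact S.eqMS (mul_mem (S.memM 0 0 _) (S.memM 0 0 _)) (mul_mem (S.memM 0 0 _) (S.memM 0 0 _))
      (by rw [map_mul, map_mul, x12, S.pμ, S.pμ, stdM_add, stdM_add, add_comm ((0 : F), (0 : F), a)])
  exact (h1.mul_left h2).mul_left (x12_comm_emb S h)

/-! ### The Heisenberg elements -/

/-- `T v`. -/
noncomputable def T (v : Vec F (m + 1)) : X := by
  classical
  exact if h : v = 0 then 1
    else S.γ (exists_act_eq ee_ne_zero h).choose * S.x12 *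
      (S.γ (exists_act_eq ee_ne_zero h).choose)⁻¹

@[simp] theorem T_zero : S.T 0 = 1 := dif_pos rfl

theorem T_eq {g : Sp F (m + 1)} {v : Vec F (m + 1)} (hg : act g ee = v) :
    S.T v = S.γ g * S.x12 * (S.γ g)⁻¹ := by
  have hv : v ≠ 0 := fun h => ee_ne_zero (by rw [← act_inv_act g ee, hg, h, act_zero])
  rw [T, dif_neg hv]
  generalize hh : (exists_act_eq ee_ne_zero hv).choose = h
  have he : act h ee = v := hh ▸ (exists_act_eq ee_ne_zero hv).choose_spec
  have h2 := (S.x12_comm (g := g⁻¹ * h) (by rw [act_mul, he]; exact act_inv_eq hg)).eq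
  rw [map_mul, map_inv] at h2
  calc S.γ h * S.x12 * (S.γ h)⁻¹
      = S.γ g * ((S.γ g)⁻¹ * S.γ h * S.x12) * (S.γ h)⁻¹ := by group
    _ = S.γ g * (S.x12 * ((S.γ g)⁻¹ * S.γ h)) * (S.γ h)⁻¹ := by rw [h2]
    _ = S.γ g * S.x12 * (S.γ g)⁻¹ := by group

theorem T_ee : S.T ee = S.x12 := by
  rw [S.T_eq (g := 1) (act_one _), map_one, one_mul, inv_one, mul_one]

theorem T_conj (g : Sp F (m + 1)) (v : Vec F (m + 1)) :
    S.γ g * S.T v * (S.γ g)⁻¹ = S.T (act g v) := by
  by_cases hv : v = 0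
  · simp [hv]
  obtain ⟨h, rfl⟩ := exists_act_eq ee_ne_zero hv
  rw [S.T_eq (g := h) rfl, S.T_eq (g := g * h) (act_mul _ _ _), map_mul]
  group

theorem γ_T (g : Sp F (m + 1)) (v : Vec F (m + 1)) :
    S.γ g * S.T v = S.T (act g v) * S.γ g := by rw [← S.T_conj, inv_mul_cancel_right]

theorem pT (v : Vec F (m + 1)) : S.p (S.T v) = tG v := by
  by_cases hv : v = 0
  · rw [hv, S.T_zero, map_one, tG_zero]
  obtain ⟨g, rfl⟩ := exists_act_eq ee_ne_zero hv
  rw [S.T_eq (g := g) rfl, map_mul, map_mul, map_inv, S.pγ, S.p_x12, emb_conj_tG]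

theorem T_smul_ee (a : F) : S.T (a • ee) = S.μ 0 (0, a, 0) := by
  by_cases ha : a = 0
  · subst ha
    rw [zero_smul, S.T_zero]
    exact S.eqMS (one_mem _) (S.memM 0 0 _) (by rw [map_one, S.pμ, stdM_zero_mid, zero_smul, tG_zero])
  have hg : act (stdS 0 (dh (Units.mk0 a ha))) (ee : Vec F (m + 1)) = a • ee := by
    simp [ee, Chevalley.SingleBond.dh_val]
  rw [S.T_eq hg, S.γσ]
  refine S.eqMS (mul_mem (mul_mem (S.memS 0 _ _) (S.memM 0 _ _)) (inv_mem (S.memS 0 _ _)))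
    (S.memM 0 _ _) ?_
  rw [map_mul, map_mul, map_inv, S.pσ, S.p_x12, S.pμ, stdS_succ, emb_conj_tG, stdM_zero_mid, hg]

theorem T_plane (α β : F) :
    S.T (mk α β 0) ∈ Subgroup.closure (Set.range (S.μ 0) ∪ Set.range (S.σ (Fin.succ 0))) := by
  by_cases hβ : β = 0
  · rw [hβ, show mk α 0 (0 : Vec F m) = α • ee by simp [ee], S.T_smul_ee]
    exact S.memM _ _ _
  · rw [S.T_eq (g := stdS 0 (colMat α β hβ)) (by simp [ee, colMat_val]), S.γσ]
    exact mul_mem (mul_mem (S.memS 0 _ _) (S.memM 0 _ _)) (inv_mem (S.memS 0 _ _))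

theorem T_mul_plane (α β α' β' : F) :
    S.T (mk α β 0) * S.T (mk α' β' 0) =
      S.T (mk α β 0 + mk α' β' 0) * S.xa (om (mk α' β' (0 : Vec F m)) (mk α β 0)) := by
  refine S.eqMS (mul_mem (S.T_plane _ _) (S.T_plane _ _)) (mul_mem ?_ ?_) ?_
  · rw [mk_add, add_zero]; exact S.T_plane _ _
  · rw [S.xa_eq_μ]; exact S.memM _ _ _
  · rw [map_mul, map_mul, S.pT, S.pT, S.pT, S.p_xa, tG_mul]

theorem T_mul_transfer (g : Sp F (m + 1)) {a b : Vec F (m + 1)}
    (h : S.T a * S.T b = S.T (a + b) * S.xa (om b a)) :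
    S.T (act g a) * S.T (act g b) = S.T (act g a + act g b) * S.xa (om (act g b) (act g a)) := by
  rw [← act_add, om_act, ← S.T_conj, ← S.T_conj, ← S.T_conj]
  calc S.γ g * S.T a * (S.γ g)⁻¹ * (S.γ g * S.T b * (S.γ g)⁻¹)
      = S.γ g * (S.T a * S.T b) * (S.γ g)⁻¹ := by group
    _ = S.γ g * S.T (a + b) * (S.xa (om b a) * (S.γ g)⁻¹) := by rw [h]; group
    _ = _ := by
      rw [show S.xa (om b a) * (S.γ g)⁻¹ = (S.γ g)⁻¹ * S.xa (om b a) by
        rw [← map_inv, S.γ_xa], ← mul_assoc]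

theorem T_mul_hyp {v u : Vec F (m + 1)} (h : om u v ≠ 0) :
    S.T v * S.T u = S.T (v + u) * S.xa (om u v) := by
  obtain ⟨g, h1, h2⟩ := exists_act_pair (om_ff_ee (F := F) (m := m))
    (show om ((om u v)⁻¹ • u) v = 1 by rw [om_smul_left, inv_mul_cancel₀ h])
  have := S.T_mul_transfer g (a := ee) (b := om u v • ff) (by
    simpa [ee, ff] using S.T_mul_plane 1 0 0 (om u v))
  rw [act_smul, h1, h2, smul_smul, mul_inv_cancel₀ h, one_smul] at this
  exact this

theorem T_mul (v u : Vec F (m + 1)) : S.T v * S.T u = S.T (v + u) * S.xa (om u v) := by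
  by_cases hv : v = 0
  · simp [hv]
  by_cases h : om u v = 0
  swap
  · exact S.T_mul_hyp h
  by_cases hcol : ∃ r : F, u = r • v
  · obtain ⟨r, rfl⟩ := hcol
    obtain ⟨g, rfl⟩ := exists_act_eq ee_ne_zero hv
    rw [← act_smul]
    exact S.T_mul_transfer g (by simpa [ee] using S.T_mul_plane 1 0 r 0)
  rw [h, S.xa_zero, mul_one]
  obtain ⟨u1, hu1⟩ := exists_om_eq_one hv
  have hu' : u - om u u1 • v ≠ 0 := fun e => hcol ⟨_, sub_eq_zero.1 e⟩
  obtain ⟨x, hx⟩ := exists_om_eq_one hu'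
  obtain ⟨a0, ha0, ha1⟩ := S.hF
  set u2 := x - om v x • u1 with hu2
  set z := u1 + (-a0 - om u u1) • u2 with hz
  have e1 : om v u2 = 0 := by rw [hu2, om_sub_right, om_smul_right, hu1, mul_one, sub_self]
  have e2 : om u u2 = 1 := by
    rw [om_sub_left, om_smul_left] at hx
    rw [hu2, om_sub_right, om_smul_right]
    linear_combination hx
  have hvz : om v z = 1 := by rw [hz, om_add_right, om_smul_right, e1, hu1, mul_zero, add_zero]
  have huz : om u z = -a0 := by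
    rw [hz, om_add_right, om_smul_right, e2, mul_one]; ring
  have ha : (-a0 : F) + 1 ≠ 0 := fun e => ha1 (by linear_combination -e)
  have key : S.T z * (S.T v * S.T u) = S.T z * S.T (v + u) := by
    rw [← mul_assoc, S.T_mul_hyp (v := z) (u := v) (by rw [hvz]; exact one_ne_zero), hvz,
      S.T_mul_hyp (v := z) (u := v + u) (by rw [om_add_left, hvz, huz, add_comm]; exact ha)]
    have hc : S.xa 1 * S.T u = S.T u * S.xa 1 := by
      by_cases hu0 : u = 0
      · simp [hu0]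
      obtain ⟨g, hg⟩ := exists_act_eq ee_ne_zero hu0
      have h0 : Commute (S.xa 1) S.x12 := S.eqMS (mul_mem (S.memS 0 0 _) (S.memM 0 0 _))
        (mul_mem (S.memM 0 0 _) (S.memS 0 0 _))
        (by rw [map_mul, map_mul, S.p_xa, S.p_x12, ux_comm_tG])
      have h1 : Commute (S.xa 1) (S.γ g) := (S.γ_xa g 1).symm
      rw [S.T_eq hg]
      exact ((h1.mul_right h0).mul_right h1.inv_right).eq
    rw [mul_assoc, hc, ← mul_assoc, S.T_mul_hyp (v := z + v) (u := u)
      (by rw [om_add_right, huz, h, add_zero]; exact neg_ne_zero.2 ha0), mul_assoc, S.xa_add,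
      add_assoc, om_add_right, huz, h, om_add_left, hvz, huz, add_zero, add_comm (-a0)]
  exact mul_left_cancel key

theorem T_neg (v : Vec F (m + 1)) : (S.T v)⁻¹ = S.T (-v) :=
  inv_eq_of_mul_eq_one_right (by rw [S.T_mul]; simp [om_neg_left])

theorem T_xa (v : Vec F (m + 1)) (a : F) : S.T v * S.xa a = S.xa a * S.T v := by
  by_cases hv : v = 0
  · simp [hv]
  obtain ⟨g, rfl⟩ := exists_act_eq ee_ne_zero hv
  have h0 : Commute S.x12 (S.xa a) := S.eqMS (mul_mem (S.memM 0 0 _) (S.memS 0 0 _))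
    (mul_mem (S.memS 0 0 _) (S.memM 0 0 _)) (by rw [map_mul, map_mul, S.p_xa, S.p_x12, ux_comm_tG])
  have h1 : Commute (S.γ g) (S.xa a) := S.γ_xa g a
  rw [S.T_eq (g := g) rfl]
  exact ((h1.mul_left h0).mul_left h1.inv_left).eq

theorem dc_conj_T (c : Fˣ) (v : Vec F (m + 1)) :
    S.dc c * S.T v * (S.dc c)⁻¹ = S.T ((c : F) • v) := by
  by_cases hv : v = 0
  · simp [hv]
  obtain ⟨g, rfl⟩ := exists_act_eq ee_ne_zero hv
  have h0 : S.dc c * S.x12 * (S.dc c)⁻¹ = S.T ((c : F) • ee) := by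
    rw [S.T_smul_ee]
    refine S.eqMS (mul_mem (mul_mem (S.memS 0 0 _) (S.memM 0 0 _)) (inv_mem (S.memS 0 0 _)))
      (S.memM 0 0 _) ?_
    rw [map_mul, map_mul, map_inv, S.p_dc, S.p_x12, S.pμ, dh_conj_tG, stdM_zero_mid]
  rw [← act_smul, ← S.T_conj, ← S.T_conj, S.T_ee, ← h0]
  have h1 : S.γ g * S.dc c = S.dc c * S.γ g := S.γ_dc g c
  have h2 : (S.dc c)⁻¹ * (S.γ g)⁻¹ = (S.γ g)⁻¹ * (S.dc c)⁻¹ := by
    rw [← _root_.mul_inv_rev, h1, _root_.mul_inv_rev]
  calc S.dc c * (S.γ g * S.x12 * (S.γ g)⁻¹) * (S.dc c)⁻¹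
      = S.dc c * S.γ g * S.x12 * ((S.γ g)⁻¹ * (S.dc c)⁻¹) := by group
    _ = S.γ g * S.dc c * S.x12 * ((S.dc c)⁻¹ * (S.γ g)⁻¹) := by rw [h1, h2]
    _ = _ := by group

theorem dc_T (c : Fˣ) (v : Vec F (m + 1)) :
    S.dc c * S.T v = S.T ((c : F) • v) * S.dc c := by rw [← S.dc_conj_T, inv_mul_cancel_right]

end Step

end CfsgLib.Classical.SpAmalgam
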